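import Cfsg.Agent.H43.S8Ex
import Cfsg.Agent.H46.Standard
import Cfsg.Agent.S1325
import Cfsg.Agent.S1265

/-! The exceptional case: `A₅ × A₅` is normal. -/

set_option autoImplicit false
set_option linter.unusedSectionVars false
set_option synthInstance.maxSize 2000

namespace Cfsg.Agent.H43.Alt8

open Equiv Equiv.Perm Subgroup Cfsg Cfsg.Agent.H49 Cfsg.Agent.GW Function P

universe u

variable {G : Type u} [Group G] [Finite G]

namespace P

def y5 : A5 := ⟨swap 0 2 * swap 0 1, mem_alternatingGroup.2 (by decide +kernel)⟩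
def k5 : A5 := ⟨swap 0 1 * swap 3 4, mem_alternatingGroup.2 (by decide +kernel)⟩

theorem g_w : ∀ a : A5, a * w5 = w5 * a → a = 1 ∨ a = w5 ∨ a = w5⁻¹ := by decide +kernel

theorem simple5 (N : Subgroup A5) (hN : N.Normal) : N = ⊥ ∨ N = ⊤ :=
  have := alternatingGroup.isSimpleGroup (α := Fin 5) (by simp)
  hN.eq_bot_or_eq_top

end P

namespace Ex

variable {μ : A5 × A5 →* G} {r s : G} (h : Ex μ r s)
include h

theorem cV' : 𝒞(four (μ (t5, 1)) (μ (v5, 1))) ≤ 𝒩(μ.range) := by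
  have ov : orderOf (μ (v5, 1)) = 2 := ord2 h.inj (by decide +kernel)
  have tv : μ (t5, 1) * μ (v5, 1) = μ (v5, 1) * μ (t5, 1) := mm μ (by decide +kernel)
  have hU : IsPi {2} (four (μ (t5, 1)) (μ (v5, 1))) := isPi_of_card_eq_pow (k := 2) Nat.prime_two
    (JR.card_four h.ot ov (h.inj.ne (by decide +kernel)) tv)
  have m : ∀ a, μ (1, a) ∈ 𝒞(four (μ (t5, 1)) (μ (v5, 1))) := fun a =>
    mem_cent_four.2 ⟨mm μ (by simp), mm μ (by simp)⟩
  have m1 := left_mem_four (μ (t5, 1)) (μ (v5, 1))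
  have m2 := right_mem_four (μ (t5, 1)) (μ (v5, 1))
  rcases sc_amb (abelian_iff.1 (JR.abelian_four tv)) le_rfl (hU.compl_singleton_of_ne (by decide))
    (m w5) h.oz (fun g hg e => by
      have e1 := mem_cent_four.1 hg
      obtain ⟨⟨a, b⟩, rfl⟩ := h.cV g e e1.1 e1.2
      rw [← Prod.fst_mul_snd (a, b), map_mul]
      refine mul_mem (mem_sup_left ?_) (mem_sup_right ?_)
      · rcases (g_t a (congrArg Prod.fst (mm' h.inj e1.1))).2.1 with rfl | rfl | rfl | rfl
        exacts [(map_one μ).symm ▸ one_mem _, m1, m2, by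
          simpa only [← map_mul, Prod.mk_mul_mk, one_mul] using mul_mem m1 m2]
      · rcases g_w b (congrArg Prod.snd (mm' h.inj e)) with rfl | rfl | rfl
        exacts [(map_one μ).symm ▸ one_mem _, mem_zpowers _, by
          simpa only [← map_inv, Prod.inv_mk, inv_one] using inv_mem (mem_zpowers (μ (1, w5)))]) with
    ⟨N, -, hNY, hn, -, h3, h6⟩ | ⟨π, hπ, h4, -⟩ | h3
  · exfalso
    have h7 := pow_mem_of_relIndex hn h6 (m c5)
    rw [← map_pow, show ((1, c5) : A5 × A5) ^ 6 = (1, c5) by decide +kernel] at h7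
    have h8 := h3.elt (mul_mem h7 (JR.conj_mem_of_mem_norm (hn (m k5)) h7))
    rw [mcj μ rfl, ← map_mul, IsPiElt, ord3 h.inj (by decide +kernel)] at h8
    exact (isPiNat_compl_singleton Nat.prime_three).1 h8 dvd_rfl
  · have hQ : piCoreOf {2} 𝒞(four (μ (t5, 1)) (μ (v5, 1))) ≤ 𝒩(μ.range) := by
      refine (p33 (a := (1, w5)) (b := (y5, 1)) h.inj (by decide +kernel)).inv_le h.se' (mn _) (mn _)
        (le_norm_piCoreOf _ _ (m w5)) (zpowers_le.1 (norm_piCoreOf _ (norm_cent (zpowers_le.2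
          (mem_norm_four ?_ ?_))))) ((piCoreOf_pi _ _).compl_singleton_of_ne (by decide))
      · rw [mcj μ (c := (t5, 1) * (v5, 1)) (by decide +kernel), map_mul]
        exact mul_mem m1 m2
      · rw [mcj μ (c := (t5, 1)) (by decide +kernel)]
        exact m1
    have h5 : ∀ n, π n = 1 → IsPiElt {2} (n : G) := fun n hn => by
      have := JR.mul_self_of_mem_four h.ot ov tv (h4 n hn)
      rw [← pow22] at this
      exact (isPiNat_singleton_pow Nat.prime_two 2).of_dvd (orderOf_dvd_of_pow_eq_one this)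
    have hk : ∀ n, π n = 1 → (n : G) ∈ 𝒩(μ.range) := fun n hn => hQ (le_piCoreOf (map_subtype_le _)
      (norm_map_subtype π.ker) (isPi_of_elt (by rintro _ ⟨n, hn, rfl⟩; exact h5 n hn)) ⟨n, hn, rfl⟩)
    let θ : A5 →* A5 := π.comp ((μ.comp (MonoidHom.inr _ _)).codRestrict _ m)
    have hθ : Surjective θ := Finite.surjective_of_injective ((MonoidHom.ker_eq_bot_iff θ).1
      ((simple5 _ inferInstance).resolve_right fun e => by
        have := h5 _ (e.ge (mem_top w5))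
        change IsPiNat _ (orderOf (μ (1, w5))) at this
        rw [h.oz] at this
        exact absurd (this 3 Nat.prime_three dvd_rfl) (by decide)))
    intro g hg
    obtain ⟨a, ha⟩ := hθ (π ⟨g, hg⟩)
    exact (mul_mem_cancel_left (inv_mem (mn (1, a)))).1 (hk ((⟨_, m a⟩ : 𝒞(_))⁻¹ * ⟨g, hg⟩) (by
      rw [map_mul, map_inv, ← ha]; exact inv_mul_cancel _))
  · have := Fact.mk (show Nat.Prime 5 by decide)
    have h5 := orderOf_dvd_natCard (⟨_, m c5⟩ : 𝒞(four (μ (t5, 1)) (μ (v5, 1))))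
    rw [orderOf_mk, orderOf_injective μ h.inj, orderOf_eq_prime (p := 5) (by decide +kernel)
      (by decide +kernel), h3, JR.card_four h.ot ov (h.inj.ne (by decide +kernel)) tv] at h5
    omega

omit h in
theorem shape {a b : A5} (hμ : Injective μ) (h : ∃ c, μ (a, b) = μ (c, 1) ∨ μ (a, b) = μ (1, c)) :
    b = 1 ∨ a = 1 :=
  let ⟨_, e⟩ := h
  e.imp (fun e => congrArg Prod.snd (hμ e)) fun e => congrArg Prod.fst (hμ e)

theorem cent_t : 𝒞[μ (t5, 1)] ≤ 𝒩(μ.range) := by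
  have ov : orderOf (μ (v5, 1)) = 2 := ord2 h.inj (by decide +kernel)
  have tv : IsConj (μ (t5, 1)) (μ (v5, 1)) := mconj μ (isConj_iff.2 ⟨(y5⁻¹, 1), by decide +kernel⟩)
  have ttv : IsConj (μ (t5, 1)) (μ (t5, 1) * μ (v5, 1)) :=
    map_mul μ _ _ ▸ mconj μ (isConj_iff.2 ⟨(y5, 1), by decide +kernel⟩)
  have rt : r ∈ 𝒞[μ (t5, 1)] := mem_cent1.2 (h.rc (by decide +kernel))
  have m : ∀ a, μ (1, a) ∈ 𝒞[μ (t5, 1)] := fun a => mem_cent1.2 (mm μ (by simp))
  obtain ⟨T, hTG, hv, hT⟩ := sylow_cent h.sylT inf_le_right (mul_self_of_inv h.ot) h.fus_t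
    (mul_self_of_inv ov) ⟨mem_cent1.2 (mm μ (by decide +kernel)), mn _⟩
  refine zstar_mod h.ot hT hv ov (h.inj.ne (by decide +kernel)) (fun g hg e => ?_)
    (fun g hg e => ?_) fun O hO hn hp => ?_
  · have e1 := mem_cent1.1 (hT.le e)
    have e2 : IsConj (μ (v5, 1)) (g * μ (v5, 1) * g⁻¹) := isConj_iff.2 ⟨g, rfl⟩
    have e3 := h.atype (mul_mem (mn (t5, 1)) (hTG e)) (ttv.trans (isConj_iff.2 ⟨g, by
      rw [← conj_mul, mem_cent1.1 hg, mul_inv_cancel_right]⟩))
    have e4 : g * μ (v5, 1) * g⁻¹ ≠ 1 := by simpa using ne_one_of_inv ov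
    obtain ⟨a, e5 | e5⟩ := h.atype (hTG e) (tv.trans e2) <;> rw [e5] at e1 e3 e4 ⊢
    · rcases (g_t a (congrArg Prod.fst (mm' h.inj e1))).2.1 with rfl | rfl | rfl | rfl
      · exact absurd (map_one μ) e4
      · rw [mul_inv_eq_iff_eq_mul, ← mem_cent1.1 hg, mul_right_inj] at e5
        exact absurd (h.inj e5) (by decide +kernel)
      · exact Or.inl rfl
      · exact Or.inr (map_mul μ (t5, 1) (v5, 1))
    · rw [← map_mul, Prod.mk_mul_mk] at e3
      rcases shape h.inj e3 with e6 | e6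
      · exact absurd (by rw [show a = 1 by simpa using e6]; exact map_one μ) e4
      · exact absurd e6 (by decide +kernel)
  · rcases e with e | e
    · exact h.cV' (mem_cent_four.2 ⟨mem_cent1.1 hg, mul_inv_eq_iff_eq_mul.1 e⟩)
    · refine (mul_mem_cancel_left h.mr).1 (h.cV' (mem_cent_four.2 ⟨mem_cent1.1 (mul_mem rt hg),
        mul_inv_eq_iff_eq_mul.1 ?_⟩))
      rw [show r * g * μ (v5, 1) * (r * g)⁻¹ = r * (g * μ (v5, 1) * g⁻¹) * r⁻¹ by group, e,
        ← map_mul, Prod.mk_mul_mk, h.hr]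
      exact congrArg μ (by decide +kernel)
  · have two : ∀ o ∈ O, o * o = 1 → o = 1 := fun o ho e => IsPiElt.eq_one (π := {2})
      (isPi_zpowers.1 (isPi_two_zpowers e)) (hp.elt ho)
    have hb : O.comap (μ.comp (MonoidHom.inr _ _)) = ⊥ := (simple5 _ ⟨fun a ha k => by
      rw [mem_comap, map_mul, map_mul, map_inv]
      exact JR.conj_mem_of_mem_norm (hn (m k)) ha⟩).resolve_right fun e =>
        ne_one_of_inv (ord2 (a := (1, t5)) h.inj (by decide +kernel)) (two _ (e.ge (mem_top t5))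
          (mul_self_of_inv (ord2 (a := (1, t5)) h.inj (by decide +kernel))))
    have i1 : Inverts r O := inverts_of_fix_eq_bot h.rr (hn rt) ((eq_bot_iff_forall _).2
      fun o ho => by
        obtain ⟨⟨a, b⟩, e⟩ := h.sq (h.crG ho.2)
        have h1 := mul_mem ho.1 ho.1
        rw [← e] at h1
        have h2 := mul_mem h1 h1
        rw [← map_mul, Prod.mk_mul_mk,
          (g_t a (congrArg Prod.fst (mm' h.inj (mem_cent1.1 (hO h1))))).1] at h2
        have h3 : μ (a, b) * μ (a, b) = 1 := by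
          rw [← map_mul, Prod.mk_mul_mk,
            (g_t a (congrArg Prod.fst (mm' h.inj (mem_cent1.1 (hO h1))))).1, mem_bot.1 (hb.le h2)]
          exact map_one μ
        exact two o ho.1 (e ▸ two _ h1 h3))
    have i2 : Inverts (μ (1, y5) * r * (μ (1, y5))⁻¹) O := fun o ho => by
      have := i1 _ (conj_mem_of_norm' hn (m y5) ho)
      calc _ = μ (1, y5) * (r * ((μ (1, y5))⁻¹ * o * μ (1, y5)) * r⁻¹) * (μ (1, y5))⁻¹ := by group
        _ = _ := by rw [this]; group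
    have i3 := i1.mul_mem_cent i2
    rw [show r * (μ (1, y5) * r * (μ (1, y5))⁻¹) = r * μ (1, y5) * r⁻¹ * (r * r) * (μ (1, y5))⁻¹ by
      group, h.rr, mul_one, h.hr, ← map_inv, ← map_mul] at i3
    exact fun o ho => h.se'.cent (mn _) (ord3 h.inj (by decide +kernel)) (i3 o ho)

theorem cent_of_t {x : G} (hx : x ∈ 𝒩(μ.range)) (e : IsConj (μ (t5, 1)) x) :
    𝒞[x] ≤ 𝒩(μ.range) := by
  obtain ⟨k, hk, e1⟩ := h.fus_t x hx e
  rw [← cj_le_iff_of_mem hk, cj_cent1, e1]
  exact h.cent_t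

theorem cent_b : 𝒞[μ (t5, t5)] ≤ 𝒩(μ.range) := by
  have m : ∀ a, a * t5 = t5 * a → μ (a, 1) ∈ 𝒞[μ (t5, t5)] := fun a ha =>
    mem_cent1.2 (mm μ (Prod.ext ha (by simp)))
  have bt : μ (t5, t5) * μ (t5, 1) = μ (1, t5) := by
    rw [← map_mul]; exact congrArg μ (by decide +kernel)
  refine zstar_mod h.ob (h.sylT.sub inf_le_left le_top) ⟨m _ rfl, mn _⟩ h.ot
    (h.inj.ne (by decide +kernel)) (fun g hg e => ?_) (fun g hg e => ?_) fun O hO hn hp => ?_
  · have e3 := h.atype (mul_mem (mn (t5, t5)) e.2)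
      ((isConj_iff.2 ⟨s, h.hs _ _⟩ : IsConj _ _).trans (isConj_iff.2 ⟨g, by
        rw [← bt, ← conj_mul, mem_cent1.1 hg, mul_inv_cancel_right]⟩))
    obtain ⟨a, e5 | e5⟩ := h.atype e.2 (isConj_iff.2 ⟨g, rfl⟩) <;> rw [e5] at e3 ⊢ <;>
      rw [← map_mul, Prod.mk_mul_mk] at e3 <;> rcases shape h.inj e3 with e6 | e6
    · exact absurd e6 (by decide +kernel)
    · exact Or.inl (by rw [eq_inv_of_mul_eq_one_right e6]; exact congrArg μ (by decide +kernel))
    · exact Or.inr (by rw [eq_inv_of_mul_eq_one_right e6, bt]; exact congrArg μ (by decide +kernel))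
    · exact absurd e6 (by decide +kernel)
  · rcases e with e | e
    · exact h.cent_t (mem_cent1.2 (mul_inv_eq_iff_eq_mul.1 e))
    · refine (mul_mem_cancel_left h.ms').1 (h.cent_t (mem_cent1.2 (mul_inv_eq_iff_eq_mul.1 ?_)))
      rw [bt] at e
      rw [show s * g * μ (t5, 1) * (s * g)⁻¹ = s * (g * μ (t5, 1) * g⁻¹) * s⁻¹ by group, e, h.hs]
  · refine H46.le_of_four (b := μ (v5, 1)) h.ot (ord2 h.inj (by decide +kernel))
      (h.inj.ne (by decide +kernel)) (mm μ (by decide +kernel))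
      ((isPiNat_compl_singleton Nat.prime_two).1 hp) (hn (m _ rfl)) (hn (m _ (by decide +kernel)))
      (inf_le_right.trans h.cent_t) (inf_le_right.trans (h.cent_of_t (mn _) ?_))
      (inf_le_right.trans (h.cent_of_t (mul_mem (mn _) (mn _)) ?_))
    · exact mconj μ (isConj_iff.2 ⟨(y5⁻¹, 1), by decide +kernel⟩)
    · exact map_mul μ _ _ ▸ mconj μ (isConj_iff.2 ⟨(y5, 1), by decide +kernel⟩)

theorem top (g : G) : g ∈ 𝒩(μ.range) := by
  have tx : IsConj (μ (t5, 1)) (g * μ (t5, 1) * g⁻¹) := isConj_iff.2 ⟨g, rfl⟩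
  have xx := mul_self_of_inv ((H8.orderOf_eq_of_isConj tx).symm.trans h.ot)
  obtain ⟨c, -, oc, cx, cr, hc⟩ := dih_even xx h.rr (Nat.not_odd_iff_even.1 fun e =>
    h.rt (tx.trans (H8.isConj_of_odd xx h.rr e)).symm)
  have hcG := h.crG (mem_cent1.2 cr)
  have hx : g * μ (t5, 1) * g⁻¹ ∈ 𝒩(μ.range) := by
    refine (?_ : 𝒞[c] ≤ _) (mem_cent1.2 cx.symm)
    obtain ⟨⟨a, b⟩, e1 | e1⟩ := h.dec hcG
    · rcases h.inv_n (mul_self_of_inv oc) e1 with ⟨a, e2⟩ | ⟨m, e2 | e2⟩
      · obtain ⟨k, -, hk⟩ := h.conj_t oc e2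
        exact h.cent_of_t hcG (isConj_iff.2 ⟨k, hk⟩).symm
      · rw [← cj_le_iff_of_mem (mn m), cj_cent1, e2]
        exact h.cent_b
      · rw [← cj_le_iff_of_mem (mn m), cj_cent1, e2]
        exact h.crG
    · exfalso
      have e2 := h.st (h.inv_s (x := r * c) (n := (ρ5 a, ρ5 b)) (by
        rw [mul_assoc, ← mul_assoc c, cr, mul_assoc, mul_self_of_inv oc, mul_one, h.rr]) (by
        rw [← h.hr]
        rcases e1 with rfl | rfl
        · exact Or.inr (by group)
        · exact Or.inl (by rw [inv_eq_of_mul_eq_one_right h.rr]; group)))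
      rcases hc with ⟨k, -, -, e3⟩ | ⟨k, -, e3⟩
      · exact e2.1 (isConj_iff.2 ⟨k, e3⟩)
      · exact e2.2 (tx.trans (isConj_iff.2 ⟨k, e3⟩))
  obtain ⟨k, hk, e⟩ := h.fus_t _ hx tx
  exact (mul_mem_cancel_left hk).1 (h.cent_t (mem_cent1.2 (mul_inv_eq_iff_eq_mul.1
    (Eq.trans (by group) e))))

theorem final : ∃ N : Subgroup G, N.Normal ∧ generalizedFittingSubgroup G = N ∧
    Nonempty (N ≃* A5 × A5) ∧ (∀ K : Subgroup G, K.Normal → K ≤ N → K = ⊥ ∨ K = N) ∧
    N.index = 4 ∧ ∀ g : G, g ^ 2 ∈ N := by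
  have hN : μ.range.Normal := normalizer_eq_top_iff.1 (top_le_iff.1 fun g _ => h.top g)
  have hmin : ∀ K : Subgroup G, K.Normal → K ≤ μ.range → K = ⊥ ∨ K = μ.range := fun K hK hle => by
    have sw : ∀ a b, μ (a, b) ∈ K → μ (b, a) ∈ K := fun a b e => h.hs a b ▸ hK.conj_mem _ e s
    rcases simple5 (K.comap (μ.comp (MonoidHom.inl _ _))) (hK.comap _) with e | e
    · have key : ∀ a b, μ (a, b) ∈ K → a = 1 := fun a b e' => by
        have : ∀ x, a * x = x * a := fun x => by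
          have e1 := mul_mem e' (hK.conj_mem _ (inv_mem e') (μ (x, 1)))
          rw [← map_inv, mcj μ rfl, ← map_mul, show (a, b) * ((x, 1) * (a, b)⁻¹ * (x, 1)⁻¹) =
            (a * (x * a⁻¹ * x⁻¹), 1) by simp] at e1
          rw [← mul_inv_eq_one, ← mem_bot.1 (e.le e1)]; group
        exact (g_Z a).1 (this _) (this _)
      refine Or.inl ((eq_bot_iff_forall _).2 fun g hg => ?_)
      obtain ⟨⟨a, b⟩, rfl⟩ := hle hg
      rw [key a b hg, key b a (sw a b hg)]
      exact map_one μ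
    · refine Or.inr (le_antisymm hle ?_)
      rintro _ ⟨⟨a, b⟩, rfl⟩
      rw [← Prod.fst_mul_snd (a, b), map_mul]
      exact mul_mem (e.ge (mem_top a)) (sw b 1 (e.ge (mem_top b)))
  have hC : 𝒞(μ.range) ≤ μ.range := fun g hg =>
    h.cV g (hg _ ⟨_, rfl⟩).symm (hg _ ⟨_, rfl⟩).symm (hg _ ⟨_, rfl⟩).symm
  have hF : fittingSubgroup G ≤ μ.range := by
    rw [← fittingOf_top]
    have h1 : ⊤ ≤ 𝒩(fittingOf (⊤ : Subgroup G)) := le_norm_fittingOf _
    have h2 : (fittingOf (⊤ : Subgroup G)).Normal := normalizer_eq_top_iff.1 (top_le_iff.1 h1)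
    rcases hmin (fittingOf ⊤ ⊓ μ.range) inferInstance inf_le_right with e | e
    · exact (cent_of_norm_of_disjoint (fun g _ => h.top g) (le_top.trans h1) e).trans hC
    · have h3 := nilpotent_cent (fittingOf_nil ⊤) (zpowers_le.2 (e.ge ⟨(v5, 1), rfl⟩).1)
        (zpowers_le.2 (e.ge ⟨(w5, 1), rfl⟩).1) (isPi_two_zpowers (mul_self_of_inv
          (ord2 h.inj (by decide +kernel)))) ((pi3 h.ow).compl_singleton_of_ne (by decide))
      exact absurd (mm' h.inj (h3 (mem_zpowers _) _ (mem_zpowers _))) (by decide +kernel)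
  refine ⟨μ.range, hN, (hmin _ inferInstance (S1325.result _ hF hC)).resolve_left fun e => ?_,
    ⟨(MonoidHom.ofInjective h.inj).symm⟩, hmin, ?_, fun g => pow_two g ▸ h.sq (h.top g)⟩
  · have := S1265.result (G := G)
    rw [e] at this
    exact ne_one_of_inv h.or (mem_bot.1 (this (cent_bot.ge (mem_top r))))
  · let π : G →* G ⧸ μ.range := QuotientGroup.mk' _
    have π1 : ∀ g, π g = 1 ↔ g ∈ μ.range := QuotientGroup.eq_one_iff
    have key : ∀ y : G, y * μ (1, w5) * y⁻¹ = μ (w5, 1) ∨ y * μ (1, w5) * y⁻¹ = μ (ρ5 w5, ρ5 1) →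
        y ∉ μ.range := by
      rintro _ e ⟨n, rfl⟩
      rw [mcj μ rfl] at e
      rcases e with e | e <;> exact absurd (congrArg Prod.fst (h.inj e)).symm
        (by simp only [Prod.fst_mul, mul_one, Prod.fst_inv, mul_inv_cancel]; decide +kernel)
    rw [index_eq_card, ← JR.card_four (a := π r) (b := π s)
      (inv_of_mul_self (by rw [← map_mul, h.rr, map_one]) (mt (π1 _).1 h.rN))
      (inv_of_mul_self (by rw [← map_mul, h.ss, map_one]) (mt (π1 _).1 (key s (Or.inl (h.hs _ _)))))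
      (fun e => key (r * s) (Or.inr (by rw [← h.hr, ← h.hs 1 w5]; group)) ((π1 _).1 (by
        rw [map_mul, e, ← map_mul, h.ss, map_one]))) (mm π h.sr.symm), ← card_top]
    congr 3
    refine (top_le_iff.1 fun g _ => ?_).symm
    obtain ⟨g, rfl⟩ := QuotientGroup.mk'_surjective _ g
    change π g ∈ _
    have m1 := left_mem_four (π r) (π s)
    have m2 := right_mem_four (π r) (π s)
    obtain ⟨n, (rfl | rfl) | rfl | rfl⟩ := h.dec (h.top g) <;>
      simp only [map_mul, (π1 _).2 ⟨n, rfl⟩, one_mul]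
    exacts [one_mem _, m1, m2, mul_mem m1 m2]

end Ex

end Cfsg.Agent.H43.Alt8
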