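import Cfsg.Agent.H43.S8Cf
import Cfsg.Agent.S0111

/-! The case leading to `S₈`. -/

set_option autoImplicit false
set_option linter.unusedSectionVars false
set_option synthInstance.maxSize 2000

namespace Cfsg.Agent.H43.Alt8

open Equiv Equiv.Perm Subgroup Cfsg Cfsg.Agent.H49 Cfsg.Agent.GW Function P

universe u

variable {G : Type u} [Group G] [Finite G]

theorem f6c : ∀ g : P6, g * swap 0 1 = swap 0 1 * g → g * g = 1 →
    g * swap 1 2 * g = swap 1 2 * g * swap 1 2 → g * swap 3 4 * g = swap 3 4 * g * swap 3 4 →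
    g = swap 2 3 ∨ g = swap 2 4 := by decide +kernel

theorem inv8 (a : S8) (ha : orderOf a = 2) :
    ∃ c : S8, (c * c * c = 1 ∧ c ≠ 1) ∧ c * a = a * c := by
  have key : ∀ b c : S8, (b * b = 1 ∧ b ≠ 1) ∧ (c * c * c = 1 ∧ c ≠ 1) ∧ c * b = b * c →
      b.support.card = a.support.card → ∃ c : S8, (c * c * c = 1 ∧ c ≠ 1) ∧ c * a = a * c := by
    rintro b c ⟨h1, h2, h3⟩ e
    obtain ⟨g, rfl⟩ := isConj_iff.1 (conj_of_prime Nat.prime_two (inv_of_mul_self h1.1 h1.2) ha e)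
    exact ⟨g * c * g⁻¹, ⟨by rw [conj_mul, conj_mul, h2.1]; simp, by simpa using h2.2⟩,
      by rw [conj_mul, conj_mul, h3]⟩
  obtain ⟨i, e, hi⟩ := supp_of_prime Nat.prime_two ha
  rw [e] at key
  obtain rfl | rfl | rfl | rfl : i = 0 ∨ i = 1 ∨ i = 2 ∨ i = 3 := by omega
  · exact key (swap 0 1) (tc 2 3 4) (by decide +kernel) (by decide +kernel)
  · exact key (dt 0 1 2 3) (tc 4 5 6) (by decide +kernel) (by decide +kernel)
  · exact key (dt 0 1 2 3 * swap 4 5) (tc 0 2 4 * tc 1 3 5) (by decide +kernel) (by decide +kernel)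
  · exact key (dt 0 1 2 3 * dt 4 5 6 7) (tc 0 2 4 * tc 1 3 5) (by decide +kernel)
      (by decide +kernel)

theorem RB.iso_S8 {z w ρ τ s r : G} (h : RB z w ρ τ s r) {ψ : S8 →* G} (hψ : Injective ψ)
    (hr : ψ (swap 3 4) = r) (hX : 𝒩(zpowers z) ≤ ψ.range) (hs : s ∈ ψ.range)
    (hC : 𝒞[r] ≤ ψ.range) : Surjective ψ := by
  have hse := h.se hX hs
  have hf : ∀ x ∈ ψ.range, IsConj r x → ∃ k ∈ ψ.range, k * x * k⁻¹ = r := by
    rintro _ ⟨a, rfl⟩ hx
    obtain ⟨c, h1, h2⟩ := inv8 a ((orderOf_injective ψ hψ a).symm.trans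
      ((H8.orderOf_eq_of_isConj hx).symm.trans h.or))
    exact h.conj_r hse (h.Dr.trans hC) hx ⟨c, rfl⟩ (ord3 hψ h1) (mm ψ h2)
  obtain ⟨T, hT, hrT⟩ := exists_sylowOf_ge (isPi_two_zpowers h.rr)
    (zpowers_le.2 (hC (self_mem_cent1 r)))
  rw [zpowers_le] at hrT
  obtain ⟨P, rfl⟩ := exists_sylow_of_top Nat.prime_two (sylowOf_of_norm_le hT le_top
    (inf_le_right.trans (sylow_of_fix hT.le hrT hC hf)))
  have hA : ∀ a, ψ a ∈ A8.map ψ ↔ sign a = 1 := fun a =>
    (mem_map_iff_mem hψ).trans mem_alternatingGroup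
  have sr : sign (swap 3 4 : S8) = -1 := sign_swap (by decide)
  rcases S0111.result P (P ⊓ A8.map ψ) inf_le_left (by
    rw [inf_relIndex_left, relIndex_eq_two_iff]
    refine ⟨r, hrT, fun b hb => ?_⟩
    obtain ⟨b, rfl⟩ := hT.le hb
    rw [← hr, ← map_mul, hA, hA, map_mul, sr]
    rcases Int.units_eq_one_or (sign b) with e | e <;> rw [e] <;> decide) r h.or hrT (fun e => by
      have := (mem_inf.1 e).2
      rw [← hr, hA, sr] at this
      exact absurd this (by decide)) with ⟨M, hM, h2, hrM⟩ | ⟨g, -, a, ha, e⟩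
  · have h3 : ∀ a : A8, ψ a ∈ M := fun a => alternatingGroup_le_of_normal (N := M.comap ψ)
      (by simp) ((nontrivial_iff_exists_ne_one _).2 ⟨tc 0 1 2 * tc 0 1 2, by
        rw [mem_comap, map_mul]; exact mul_self_mem_of_index_two h2 _, by decide +kernel⟩) a.2
    let φ : A8 →* M := (ψ.comp A8.subtype).codRestrict M h3
    have h4 := Emb.surj (φ := φ) ⟨fun a b e => Subtype.ext (hψ (congrArg Subtype.val e)), by
      rintro g _ ⟨a, rfl⟩ oa ⟨b, e⟩
      obtain ⟨x, hx⟩ := hse g (ψ a) ⟨_, rfl⟩ ((orderOf_coe _).trans oa)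
        ⟨b, congrArg Subtype.val e⟩
      rcases Int.units_eq_one_or (sign x) with e' | e'
      · exact ⟨⟨x, mem_alternatingGroup.2 e'⟩, Subtype.ext hx⟩
      · have := h3 ⟨x * swap 3 4, mem_alternatingGroup.2 (by rw [map_mul, e', sr]; decide)⟩
        rw [map_mul, hx, hr, M.mul_mem_cancel_left g.2] at this
        exact absurd this hrM⟩
    have h5 : M ≤ ψ.range := fun g hg =>
      let ⟨a, e⟩ := h4 ⟨g, hg⟩
      ⟨a, congrArg Subtype.val e⟩
    intro g
    by_cases hg : g ∈ M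
    · exact h5 hg
    · exact (ψ.range.mul_mem_cancel_right ⟨_, hr⟩).1 (h5 ((mul_mem_iff_of_index_two h2).2
        (iff_of_false hg hrM)))
  · obtain ⟨_, ⟨k, rfl⟩, e'⟩ := hf _ ⟨a, rfl⟩ (isConj_iff.2 ⟨g, e.symm⟩)
    rw [mcj ψ rfl, ← hr] at e'
    have := congrArg sign (hψ e')
    rw [sr, map_mul, map_mul, mem_alternatingGroup.1 ha, map_inv, mul_one, mul_inv_cancel] at this
    exact absurd this (by decide)

/-- the Coxeter generators -/
def x1 (i : ℕ) : KK := [σ, z * σ * z⁻¹, 1, r, (1, swap 1 4), w * τ * w⁻¹, τ].getD i 1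

/-- the Coxeter generators, conjugated -/
def x2 (a : KK) (i : ℕ) : KK := [τ, w * τ * w⁻¹, a, r, 1, z * σ * z⁻¹, σ].getD i 1

namespace Cf

variable {ι : KK →* G} {s : G} (h : Cf ι s) (h1 : h.κ σ = ι τ)
include h h1

theorem cox {a : KK} (ha : a = (1, swap 1 4) ∨ a = (1, swap 0 4))
    (hc : h.κ a * ι (1, swap 1 4) = ι (1, swap 1 4) * h.κ a) : ∃ ψ : S8 →* G, Injective ψ ∧
      ψ (swap 3 4) = ι r ∧ 𝒩(zpowers (ι z)) ≤ ψ.range ∧ s ∈ ψ.range := by
  let x : ℕ → G := fun i => if i = 2 then h.κ a else ι (x1 i)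
  have e1 : ∀ i, i ≠ 2 → x i = ι (x1 i) := fun i hi => if_neg hi
  have e2 : ∀ i < 7, i ≠ 4 → x i = h.κ (x2 a i) := fun i hi i4 => by
    interval_cases i
    · exact (h.κsymm h1).symm
    · change ι (_ * _ * _) = h.κ (_ * _ * _)
      simp only [map_mul, map_inv, h.κw, h.κsymm h1]
    · rfl
    · exact h.κr.symm
    · exact absurd rfl i4
    · change ι (_ * _ * _) = h.κ (_ * _ * _)
      simp only [map_mul, map_inv, h.κz, h1]
    · exact h1.symm
  have r1 : ∀ i < 7, ∀ j < 7, i ≠ 2 → j ≠ 2 → x1 i * x1 i = 1 ∧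
      (j = i + 1 → x1 i * x1 j * x1 i = x1 j * x1 i * x1 j) ∧
      (i + 1 < j → x1 i * x1 j = x1 j * x1 i) := by decide +kernel
  have r2 : ∀ i < 7, ∀ j < 7, i ≠ 4 → j ≠ 4 → x2 a i * x2 a i = 1 ∧
      (j = i + 1 → x2 a i * x2 a j * x2 a i = x2 a j * x2 a i * x2 a j) ∧
      (i + 1 < j → x2 a i * x2 a j = x2 a j * x2 a i) := by
    rcases ha with rfl | rfl <;> decide +kernel
  obtain ⟨ψ, hψ⟩ := H95.exists_hom_perm_of_coxeter 7 x (fun i hi => by
    by_cases e : i = 2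
    · rw [e2 i hi (by omega), ← map_mul, (r2 i hi 0 (by omega) (by omega) (by omega)).1, map_one]
    · rw [e1 i e, ← map_mul, (r1 i hi 0 (by omega) e (by omega)).1, map_one]) (fun i hi => by
    by_cases e : i = 1 ∨ i = 2
    · rw [e2 i (by omega) (by omega), e2 _ hi (by omega)]
      simp only [← map_mul]
      rw [(r2 i (by omega) _ hi (by omega) (by omega)).2.1 rfl]
    · rw [e1 i (by omega), e1 _ (by omega)]
      simp only [← map_mul]
      rw [(r1 i (by omega) _ hi (by omega) (by omega)).2.1 rfl]) fun i j ij hj => by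
    by_cases e : i = 2 ∧ j = 4
    · rw [e.1, e.2]
      exact hc
    by_cases e' : i = 2 ∨ j = 2
    · rw [e2 i (by omega) (by omega), e2 j hj (by omega)]
      exact mm h.κ ((r2 i (by omega) j hj (by omega) (by omega)).2.2 ij)
    · rw [e1 i (by omega), e1 j (by omega)]
      exact mm ι ((r1 i (by omega) j hj (by omega) (by omega)).2.2 ij)
  have m : ∀ i < 7, i ≠ 2 → x1 i ∈ ψ.range.comap ι := fun i hi i2 => ⟨_, (hψ i hi).trans (e1 i i2)⟩
  have hz : ψ (swap 0 1 * swap 1 2) = ι z := by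
    rw [map_mul, show z = x1 0 * x1 1 by decide +kernel, map_mul]
    exact congrArg₂ _ (hψ 0 (by decide)) (hψ 1 (by decide))
  have hw : ψ (swap 6 7 * swap 5 6) = ι w := by
    rw [map_mul, show w = x1 6 * x1 5 by decide +kernel, map_mul]
    exact congrArg₂ _ (hψ 6 (by decide)) (hψ 5 (by decide))
  have hi : Injective ψ := perm_inj (by decide) (by decide +kernel) (hz ▸ h.z1)
  have hX : 𝒩(zpowers (ι z)) ≤ ψ.range := by
    rw [← h.rg]
    have hb : ∀ b, ι (b, 1) ∈ ψ.range :=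
      top_of_swaps (H := (ψ.range.comap ι).comap (MonoidHom.inl _ _)) fun i => by
        fin_cases i
        · exact m 0 (by decide) (by decide)
        · have := m 1 (by decide) (by decide)
          rwa [show x1 1 = (swap 1 2, 1) by decide +kernel] at this
    have hc : ∀ c, ι (1, c) ∈ ψ.range :=
      top_of_swaps (H := (ψ.range.comap ι).comap (MonoidHom.inr _ _)) fun i => by
        have m4 := m 4 (by decide) (by decide)
        have m5 := m 5 (by decide) (by decide)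
        have m6 := m 6 (by decide) (by decide)
        fin_cases i
        · exact m 3 (by decide) (by decide)
        · have := mul_mem (mul_mem (mul_mem (mul_mem m4 m5) m6) m5) m4
          rwa [show x1 4 * x1 5 * x1 6 * x1 5 * x1 4 = (1, swap 1 2) by decide +kernel] at this
        · exact m6
        · rwa [show x1 5 = (1, swap 3 4) by decide +kernel] at m5
    rintro _ ⟨⟨b, c⟩, rfl⟩
    rw [← Prod.fst_mul_snd (b, c), map_mul]
    exact mul_mem (hb b) (hc c)
  let b' : A8 := el (swap 6 7 * swap 5 6)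
  obtain ⟨b, hb⟩ := h.mem_range (φ := ψ.comp A8.subtype) (hi.comp A8.subtype_injective)
    ((congrArg ψ (by decide +kernel)).trans hz) ⟨b', hw⟩
  exact ⟨ψ, hi, hψ 3 (by decide), hX,
    (ψ.range.mul_mem_cancel_left (inv_mem ⟨_, rfl⟩)).1 (hX (h.czX hb))⟩

theorem one (hc : Nat.card 𝒞[ι r] ∣ 144 → False) : Nonempty (G ≃* S8) := by
  obtain ⟨f, hf, hk, fz, fσ, fs⟩ := h.cent_r.resolve_left fun e =>
    hc (h.cardN ▸ card_dvd_of_le e)
  have hN := (norm_inv h.or).ge
  let a : KK := (1, swap 1 4)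
  have key : ∀ b c : KK, h.κ b = ι c → ι (v * c * v⁻¹) = ι v * h.κ b * (ι v)⁻¹ := fun b c e => by
    rw [← mcj ι rfl, e]
  let β : 𝒩(zpowers (ι r)) := ⟨ι v * h.κ a * (ι v)⁻¹, hN (mem_cent1.2 (by
    rw [show r = v * τ * v⁻¹ by decide +kernel, key _ _ h1, conj_mul, conj_mul,
      mm h.κ (show a * σ = σ * a by decide +kernel)]))⟩
  let cz : 𝒩(zpowers (ι r)) := ⟨_, h.mz⟩
  let cσ : 𝒩(zpowers (ι r)) := ⟨_, h.mρ⟩
  let cs : 𝒩(zpowers (ι r)) := ⟨_, h.ms⟩
  have f12 : f (cz * cσ * cz⁻¹) = swap 1 2 := by rw [← mcj f rfl, fz, fσ]; decide +kernel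
  have f34 : f (cs * cσ * cs⁻¹) = swap 3 4 := by rw [← mcj f rfl, fs, fσ]; decide +kernel
  have fw : f (cs * cz * cs⁻¹) = w6 := by rw [← mcj f rfl, fs, fz]; decide +kernel
  have k1 : h.κ (w * τ * w⁻¹) = ι (z * σ * z⁻¹) := by
    simp only [map_mul, map_inv, h.κw, h.κsymm h1]
  have hβ := f6c (f β) (fσ ▸ mm f (Subtype.ext (by
    change _ * ι σ = ι σ * _
    rw [show σ = v * σ * v⁻¹ by decide +kernel, key _ _ (h.κsymm h1), conj_mul, conj_mul,
      mm h.κ (show a * τ = τ * a by decide +kernel)])))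
    (by
      rw [← map_mul, ← map_one f]
      refine congrArg f (Subtype.ext ?_)
      change _ * _ * _ * (_ * _ * _) = 1
      rw [conj_mul, ← map_mul, show a * a = 1 by decide +kernel]; simp)
    (by
      rw [← f12]
      simp only [← map_mul]
      refine congrArg f (Subtype.ext ?_)
      change _ * (ι z * ι σ * (ι z)⁻¹) * _ = ι z * ι σ * (ι z)⁻¹ * _ * (ι z * ι σ * (ι z)⁻¹)
      rw [mcj ι (show z * σ * z⁻¹ = v * (z * σ * z⁻¹) * v⁻¹ by decide +kernel), key _ _ k1]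
      simp only [β]
      rw [conj_mul, conj_mul, conj_mul, conj_mul]
      simp only [← map_mul]
      rw [show a * (w * τ * w⁻¹) * a = w * τ * w⁻¹ * a * (w * τ * w⁻¹) by decide +kernel])
    (by
      rw [← f34]
      simp only [← map_mul]
      refine congrArg f (Subtype.ext ?_)
      change _ * h.κ σ * _ = h.κ σ * _ * h.κ σ
      rw [h1, show τ = v * r * v⁻¹ by decide +kernel, key _ _ h.κr]
      simp only [β]
      rw [conj_mul, conj_mul, conj_mul, conj_mul]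
      simp only [← map_mul]
      rw [show a * r * a = r * a * r by decide +kernel])
  have lift : ∀ (d : 𝒩(zpowers (ι r))) (b k : KK), (d : G) = ι (v * b * v⁻¹) →
      k * r * k⁻¹ = v * b * v⁻¹ → IsConj t (r * (v * b * v⁻¹)) → f β * f d = f d * f β →
      h.κ a * ι b = ι b * h.κ a := fun d b k e e1 e2 e3 => by
    rw [← mul_inv_eq_iff_eq_mul, mcj f rfl, hk] at e3
    rcases e3 with e3 | e3
    · change ι v * h.κ a * (ι v)⁻¹ * d * (ι v * h.κ a * (ι v)⁻¹)⁻¹ = d at e3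
      rw [e, ← mcj ι rfl, conj_mul, conj_inv, conj_mul] at e3
      exact mul_inv_eq_iff_eq_mul.1 (MulAut.conj (ι v) |>.injective e3)
    · refine absurd (((mconj ι (isConj_iff.2 ⟨k, e1⟩)).trans
        (isConj_iff.2 ⟨β, ?_⟩)).trans (mconj ι e2).symm) h.rt
      rw [← e, map_mul, ← e]
      exact e3
  have ew : ((cs * cz * cs⁻¹ : 𝒩(zpowers (ι r))) : G) = ι w := h.sz
  have eτ : ((cs * cσ * cs⁻¹ : 𝒩(zpowers (ι r))) : G) = ι τ := h1
  obtain ⟨ψ, hψ, hr, hX, hs⟩ : ∃ ψ : S8 →* G, Injective ψ ∧ ψ (swap 3 4) = ι r ∧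
      𝒩(zpowers (ι z)) ≤ ψ.range ∧ s ∈ ψ.range := by
    rcases hβ with e | e
    · refine h.cox h1 (Or.inl rfl) (lift ((cs * cz * cs⁻¹) * (cs * cσ * cs⁻¹) * (cs * cz * cs⁻¹)⁻¹)
        _ (w * v) ?_ (by decide +kernel) (isConj_iff.2 ⟨w, by decide +kernel⟩) ?_)
      · rw [Subgroup.coe_mul, Subgroup.coe_mul, Subgroup.coe_inv, ew, eτ]
        exact mcj ι (by decide +kernel)
      · rw [← mcj f rfl, fw, f34, e]; decide +kernel
    · have := lift ((cs * cz * cs⁻¹)⁻¹ * (cs * cσ * cs⁻¹) * (cs * cz * cs⁻¹)⁻¹⁻¹) (1, swap 0 4)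
        (w⁻¹ * v) (by
          rw [Subgroup.coe_mul, Subgroup.coe_mul, Subgroup.coe_inv, Subgroup.coe_inv,
            Subgroup.coe_inv, ew, eτ, ← map_inv]
          exact mcj ι (by decide +kernel)) (by decide +kernel)
        (isConj_iff.2 ⟨w⁻¹, by decide +kernel⟩)
        (by rw [← mcj f rfl, map_inv, fw, f34, e]; decide +kernel)
      refine h.cox h1 (Or.inr rfl) ?_
      rw [show ((1, swap 0 4) : KK) = r * a * r⁻¹ by decide +kernel,
        show ((1, swap 1 4) : KK) = r * (1, swap 0 4) * r⁻¹ by decide +kernel, ← mcj h.κ rfl,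
        ← mcj ι rfl, h.κr, conj_mul, conj_mul, this]
  have mι : ∀ b, ι b ∈ ψ.range := fun b => hX (h.rg.le ⟨b, rfl⟩)
  refine ⟨(MulEquiv.ofBijective ψ ⟨hψ, h.iso_S8 hψ hr hX hs fun g hg => ?_⟩).symm⟩
  have m : ∀ d : 𝒩(zpowers (ι r)), (d : G) ∈ ψ.range → f d ∈ (ψ.range.subgroupOf _).map f :=
    fun d hd => mem_map_of_mem f hd
  have m34 := f34 ▸ m _ (eτ ▸ mι τ)
  have mβ := m β (mul_mem (mul_mem (mι v) (mul_mem (mul_mem hs (mι a)) (inv_mem hs)))
    (inv_mem (mι v)))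
  obtain ⟨d, hd, e⟩ := top_of_swaps (H := (ψ.range.subgroupOf _).map f) (fun i => by
    fin_cases i
    · exact fσ ▸ m cσ (mι σ)
    · exact f12 ▸ m _ (mul_mem (mul_mem (mι z) (mι σ)) (inv_mem (mι z)))
    · rcases hβ with e | e <;> rw [e] at mβ
      · exact mβ
      · have := mul_mem (mul_mem m34 mβ) m34
        rwa [show swap 3 4 * swap 2 4 * swap 3 4 = (swap 2 3 : P6) by decide +kernel] at this
    · exact m34
    · have mw := fw ▸ m _ (ew ▸ mι w)
      have := mul_mem (mul_mem mw m34) (inv_mem mw)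
      rwa [show w6 * swap 3 4 * w6⁻¹ = swap 4 5 by decide +kernel] at this) (f ⟨g, hN hg⟩)
  rcases (hk _ _).1 e.symm with e' | e' <;> rw [show g = _ from e']
  exacts [hd, mul_mem (mι r) hd]

end Cf

end Cfsg.Agent.H43.Alt8
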