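import Cfsg.Agent.H43.S8Cr

/-! The configuration with `N(⟨z⟩) ≅ S₃ × S₅`. -/

set_option autoImplicit false
set_option linter.unusedSectionVars false
set_option synthInstance.maxSize 2000

namespace Cfsg.Agent.H43.Alt8

open Equiv Equiv.Perm Subgroup Cfsg Cfsg.Agent.H49 Cfsg.Agent.GW Function

universe u

variable {G : Type u} [Group G] [Finite G]

/-- the model of the normaliser -/
abbrev KK := Perm (Fin 3) × Perm (Fin 5)

namespace P

def z : KK := (swap 0 2 * swap 0 1, 1)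
def w : KK := (1, swap 2 4 * swap 2 3)
def σ : KK := (swap 0 1, 1)
def τ : KK := (1, swap 2 3)
def r : KK := (1, swap 0 1)
def t : KK := (1, swap 0 1 * swap 2 3)
def v : KK := (1, swap 0 2 * swap 1 3)
def c : KK := (1, finRotate 5)

theorem f_D : ∀ g : KK, g * z = z * g → g * w = w * g →
    ∃ a ∈ [1, z, z⁻¹], ∃ b ∈ [1, w, w⁻¹], g = a * b ∨ r * g = a * b := by decide +kernel

theorem f_zr : ∀ g : KK, g * z = z * g → g * r = r * g → g * w * g⁻¹ = w ∨ g * w * g⁻¹ = w⁻¹ := by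
  decide +kernel

theorem f_s : ∀ g : KK, g * z = z * g → g * w = w⁻¹ * g → g * g = 1 →
    ∃ a ∈ [1, w, w⁻¹], a * g * a⁻¹ = τ ∨ a * g * a⁻¹ = t := by decide +kernel

theorem f_zt : ∀ g : KK, g * z = z * g → g * t = t * g →
    g * g * (g * g) = 1 ∨ g * g * (g * g) = z ∨ g * g * (g * g) = z⁻¹ := by decide +kernel

theorem f_c : ∀ x : KK, x * (c * c) = c * c * x → x * x * x = 1 → x = 1 ∨ x = z ∨ x = z⁻¹ := by
  decide +kernel

theorem f_w : ∀ k : KK, k * w * k⁻¹ * w = w * (k * w * k⁻¹) →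
    k * w * k⁻¹ = w ∨ k * w * k⁻¹ = w⁻¹ := by decide +kernel

end P

open P

/-- the configuration -/
structure Cf (ι : KK →* G) (s : G) : Prop extends RB (ι z) (ι w) (ι σ) (ι τ) s (ι r) where
  inj : Injective ι
  rg : ι.range = 𝒩(zpowers (ι z))

theorem Base.cf {ι : KK →* G} {s : G} (h : Base (ι z) (ι w) (ι σ) (ι τ) s) (hι : Injective ι)
    (hr : ι.range = 𝒩(zpowers (ι z))) (hc : Nat.card 𝒩(four (ι z) (ι w)) = 144) :
    ∃ s, Cf ι s ∧ (s * ι σ * s⁻¹ = ι τ ∨ s * ι σ * s⁻¹ = ι t) := by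
  have mz := left_mem_four (ι z) (ι w)
  have mw := right_mem_four (ι z) (ι w)
  have key : ∀ s, Base (ι z) (ι w) (ι σ) (ι τ) s → Cf ι s := fun s h => by
    refine ⟨⟨h, ord2 hι (by decide +kernel), mem_cent_four.2 ⟨mm ι (by decide +kernel),
      mm ι (by decide +kernel)⟩, fun g hg => ?_, by
        rw [← map_mul, show σ * σ = 1 by decide +kernel, map_one], fun g hg => ?_, hc⟩, hι, hr⟩
    · have e := mem_cent_four.1 hg
      obtain ⟨a, rfl⟩ := hr.ge (h.czX (mem_cent1.2 e.1))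
      obtain ⟨b, hb, c, hc, e'⟩ := f_D a (mm' hι e.1) (mm' hι e.2)
      have : ι (b * c) ∈ four (ι z) (ι w) := by
        simp only [List.mem_cons, List.not_mem_nil, or_false] at hb hc
        rw [map_mul]
        refine mul_mem ?_ ?_
        · rcases hb with rfl | rfl | rfl <;> simp [mz]
        · rcases hc with rfl | rfl | rfl <;> simp [mw]
      rw [← map_mul]
      exact e'.imp (fun e => by rw [e]; exact this) fun e => by rw [e]; exact this
    · obtain ⟨a, rfl⟩ := hr.ge (h.czX hg.1)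
      refine mem_norm_four (by rw [mem_cent1.1 hg.1, mul_inv_cancel_right]; exact mz) ?_
      rcases f_zr a (mm' hι (mem_cent1.1 hg.1)) (mm' hι (mem_cent1.1 hg.2)) with e | e <;>
        rw [mcj ι e] <;> simp [mw]
  have e1 : s * ι σ * s⁻¹ * ι z = ι z * (s * ι σ * s⁻¹) := by
    rw [← h.sw, conj_mul, conj_mul, mm ι (show σ * w = w * σ by decide +kernel)]
  obtain ⟨b, hb⟩ := hr.ge (h.czX (mem_cent1.2 e1))
  rw [← hb] at e1
  obtain ⟨a, ha, e⟩ := f_s b (mm' hι e1) (mm' hι (by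
    rw [hb, map_inv, ← h.sz, conj_inv, conj_mul, conj_mul, ← map_inv,
      mm ι (show σ * z = z⁻¹ * σ by decide +kernel)])) (hι (by
    rw [map_mul, hb, conj_mul, ← map_mul, show σ * σ = 1 by decide +kernel]; simp))
  obtain ⟨e2, e3, e4⟩ : a⁻¹ * z * a⁻¹⁻¹ = z ∧ a * w * a⁻¹ = w ∧ a⁻¹ * σ * a⁻¹⁻¹ = σ := by
    clear * - ha
    revert a
    decide +kernel
  have e5 : ∀ x : KK, ι a * s * (ι a)⁻¹ * ι x * (ι a * s * (ι a)⁻¹)⁻¹ =
      ι a * (s * (ι a⁻¹ * ι x * (ι a⁻¹)⁻¹) * s⁻¹) * (ι a)⁻¹ := fun x => by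
    rw [map_inv]; group
  refine ⟨ι a * s * (ι a)⁻¹, key _ ⟨h.toSg, by rw [conj_mul, h.ss]; simp, ?_, h.syl, h.cy, h.ncy⟩,
    ?_⟩
  · rw [e5, mcj ι e2, h.sz, mcj ι e3]
  · rw [e5, mcj ι e4, ← hb]
    exact e.imp (mcj ι) (mcj ι)

namespace Cf

variable {ι : KK →* G} {s : G} (h : Cf ι s)
include h

theorem pull {g : G} (hg : g * ι z = ι z * g) : ∃ a, ι a = g := h.rg.ge (h.czX (mem_cent1.2 hg))

theorem syl_t : IsSylowOf 3 (zpowers (ι z)) 𝒞[ι t] := by
  refine sylow3 (mem_cent1.2 (mm ι (by decide +kernel))) h.oz fun g hg e => ?_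
  obtain ⟨a, rfl⟩ := h.pull e
  exact pow4_mem ι (f_zt a (mm' h.inj e) (mm' h.inj (mem_cent1.1 hg)))

theorem rt : ¬ IsConj (ι r) (ι t) :=
  h.not_conj (by rw [← map_mul]; exact mm ι (by decide +kernel)) h.syl_t

theorem rτ : IsConj (ι r) (ι τ) := mconj ι (isConj_iff.2 ⟨v, by decide +kernel⟩)

theorem ot : orderOf (ι t) = 2 := ord2 h.inj (by decide +kernel)

/-- conjugation by `s` -/
def κ (_ : Cf ι s) : KK →* G := (MulAut.conj s).toMonoidHom.comp ι

theorem κ_def (a : KK) : h.κ a = s * ι a * s⁻¹ := rfl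

theorem κinj : Injective h.κ := (MulAut.conj s).injective.comp h.inj

theorem κz : h.κ z = ι w := h.sz
theorem κw : h.κ w = ι z := h.sw
theorem κr : h.κ r = ι r := by rw [κ_def, h.sr, mul_inv_cancel_right]

theorem κsymm {a b : KK} (e : h.κ a = ι b) : h.κ b = ι a := by
  rw [κ_def, ← e, κ_def, ← mul_assoc, ← mul_assoc, h.ss, one_mul, mul_assoc, ← mul_inv_rev, h.ss]
  simp

end Cf

theorem top_of_swaps {n : ℕ} {H : Subgroup (Perm (Fin (n + 1)))}
    (h : ∀ i : Fin n, swap i.castSucc i.succ ∈ H) (g : Perm (Fin (n + 1))) : g ∈ H :=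
  (Submonoid.closure_le (S := H.toSubmonoid)).2 (by rintro _ ⟨i, rfl⟩; exact h i)
    ((mclosure_swap_castSucc_succ n).ge (Submonoid.mem_top g))

end Cfsg.Agent.H43.Alt8
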