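import Cfsg.Agent.H43.S8Gen

/-! The centraliser of the involution centralising a Sylow `3`-subgroup. -/

set_option autoImplicit false
set_option linter.unusedSectionVars false

namespace Cfsg.Agent.H43.Alt8

open Subgroup Cfsg Cfsg.Agent.H49 Cfsg.Agent.GW Function

universe u

variable {G : Type u} [Group G] [Finite G]

/-- the configuration with an involution `r` centralising the Sylow `3`-subgroup -/
structure RB (z w ρ τ s r : G) : Prop extends Base z w ρ τ s where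
  or : orderOf r = 2
  rD : r ∈ 𝒞(four z w)
  cD : ∀ g ∈ 𝒞(four z w), g ∈ four z w ∨ r * g ∈ four z w
  ρρ : ρ * ρ = 1
  czr : 𝒞[z] ⊓ 𝒞[r] ≤ 𝒩(four z w)
  cardN : Nat.card 𝒩(four z w) = 144

namespace RB

variable {z w ρ τ s r : G} (h : RB z w ρ τ s r)
include h

theorem rr : r * r = 1 := mul_self_of_inv h.or

theorem Dr : four z w ≤ 𝒞[r] := by
  rw [← cent_zpowers]; exact cent_symm (zpowers_le.2 h.rD)

theorem uniq {g : G} (hg : g ∈ 𝒞(four z w)) (og : orderOf g = 2) : g = r := by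
  have key : ∀ a ∈ four z w, a * a = 1 → a = 1 := fun a ha e => by
    rw [← h.cube a ha, pow_three, e, mul_one]
  rcases h.cD g hg with e | e
  · exact absurd (key g e (mul_self_of_inv og)) (ne_one_of_inv og)
  · have e1 := mem_cent1.1 (h.Dr e)
    have e2 := key _ e (by
      calc r * g * (r * g) = r * (r * (r * g * r)) * g := by rw [← mul_assoc r r, h.rr]; group
        _ = _ := by rw [e1, ← mul_assoc r r, ← mul_assoc r r, h.rr, one_mul, one_mul,
          mul_self_of_inv og])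
    rw [eq_inv_of_mul_eq_one_right e2, inv_eq_of_mul_eq_one_right h.rr]

theorem Nr : 𝒩(four z w) ≤ 𝒞[r] := fun _ hg => mem_cent1.2 (mul_inv_eq_iff_eq_mul.1 (h.uniq
  (JR.conj_mem_of_mem_norm (zpowers_le.1 (norm_cent (zpowers_le.2 hg))) h.rD)
  ((H8.orderOf_conj' _ _).trans h.or)))

theorem sr : s * r = r * s := mem_cent1.1 (h.Nr h.sN)

theorem exists_syl {x c : G} (hx : IsConj r x) (oc : orderOf c = 3) (hc : c * x = x * c) :
    ∃ k, cj k (four z w) ≤ 𝒞[x] ⊓ 𝒞[c] ∧ IsSylowOf 3 (cj k (four z w)) ⊤ := by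
  obtain ⟨g, rfl⟩ := isConj_iff.1 hx
  have h1 : cj g (four z w) ≤ 𝒞[g * r * g⁻¹] := cj_cent1 g r ▸ cj_mono _ h.Dr
  have h2 := h.syl.cj_of_mem (mem_top g)
  obtain ⟨k, hk, e⟩ := sylowOf_subJ (h2.sub h1 le_top) (zpowers_le.2 (mem_cent1.2 hc)) (pi3 oc)
  refine ⟨k⁻¹ * g, le_inf ?_ ?_, h.syl.cj_of_mem (mem_top _)⟩
  · rw [← cj_cj]
    exact cj_le_of_mem h1 (inv_mem hk)
  · refine (cj_mono _ h.ab).trans ?_
    rw [cj_centralizer, ← cj_cj]
    exact cent_le_cent1 (mem_cj.2 (by simpa using e (conj_mem_cj.2 (mem_zpowers c))))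

theorem conj_r {H : Subgroup G} (hH : SE H) (hD : four z w ≤ H) {x c : G} (hx : IsConj r x)
    (hcH : c ∈ H) (oc : orderOf c = 3) (hc : c * x = x * c) : ∃ k ∈ H, k * x * k⁻¹ = r := by
  obtain ⟨k, h1, h2⟩ := h.exists_syl hx oc hc
  obtain ⟨g, hg, e⟩ := sylowOf_conj (h2.sub (fun a ha => hH.cent hcH oc (mem_cent1.1 (h1 ha).2))
    le_top) (h.syl.sub hD le_top)
  refine ⟨g, hg, h.uniq ?_ ((H8.orderOf_conj' _ _).trans
    ((H8.orderOf_eq_of_isConj hx).symm.trans h.or))⟩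
  rw [← e, ← cj_centralizer, conj_mem_cj, ← zpowers_le]
  exact cent_symm (cent_zpowers x ▸ h1.trans inf_le_left)

theorem not_conj_r {x : G} (hx : x * (z * w) = z * w * x) (hz : x * z ≠ z * x) : ¬ IsConj r x := by
  intro hc
  obtain ⟨k, h1, h2⟩ := h.exists_syl hc h.oy hx.symm
  have h3 := (h.syl.sub le_normalizer le_top).le_of_normal le_rfl
    (h1.trans (inf_le_right.trans h.cy)) h2.pi
  rw [eq_of_le_of_card_eq h3 (card_cj _ _)] at h1
  exact hz (mem_cent1.1 (h1 (left_mem_four z w)).1).symm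

theorem rs : ¬ IsConj r s := h.not_conj_r h.sy fun e => h.ne (by rw [← h.sz, e, mul_inv_cancel_right])

theorem rrs : ¬ IsConj r (r * s) := by
  have e1 := (mem_cent_four.1 h.rD).1
  have e2 := (mem_cent_four.1 h.rD).2
  refine h.not_conj_r ?_ fun e => h.ne ?_
  · rw [mul_assoc, h.sy, ← mul_assoc, ← mul_assoc, e1, mul_assoc z, e2]; group
  · rw [← mul_assoc, ← e1, mul_assoc, mul_assoc, mul_right_inj] at e
    rw [← h.sz, e, mul_inv_cancel_right]

theorem mz : z ∈ 𝒩(zpowers r) := (norm_inv h.or).ge (h.Dr (left_mem_four z w))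
theorem mρ : ρ ∈ 𝒩(zpowers r) := (norm_inv h.or).ge (h.Nr h.ρN)
theorem ms : s ∈ 𝒩(zpowers r) := (norm_inv h.or).ge (h.Nr h.sN)

theorem cent_r : 𝒞[r] ≤ 𝒩(four z w) ∨ ∃ f : 𝒩(zpowers r) →* P6, Surjective f ∧
    (∀ a b, f a = f b ↔ (a : G) = b ∨ (a : G) = r * b) ∧ f ⟨z, h.mz⟩ = z6 ∧
      f ⟨ρ, h.mρ⟩ = Equiv.swap 0 1 ∧ f ⟨s, h.ms⟩ = s6 := by
  have hN := h.Nr.trans (norm_inv h.or).ge
  have hD := le_normalizer.trans hN
  have hp := isPi_two_zpowers h.rr
  have lift : ∀ a b : 𝒩(zpowers r), (a : G) ^ 3 = 1 → (b : G) ^ 3 = 1 → coset _ a = coset _ b →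
      (a : G) = b := fun a b ha hb e => ((cos_eq h.or).1 e).resolve_right fun e' => by
    rw [e', (show Commute r b from (mem_cent1.1 ((norm_inv h.or).le b.2)).symm).mul_pow, hb,
      mul_one, pow_three, h.rr, mul_one] at ha
    exact ne_one_of_inv h.or ha
  have cub : ∀ g : 𝒩(zpowers r), ∀ d ∈ four z w, ((g : G) * d * (g : G)⁻¹) ^ 3 = 1 :=
    fun g d hd => by rw [conj_pow, h.cube d hd]; simp
  have nT : ∀ g : 𝒩(zpowers r), coset _ g ∈ 𝒩(quo (four z w) (zpowers r)) →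
      (g : G) ∈ 𝒩(four z w) := fun g hg => mem_norm_of_cj_le fun _ hd0 => by
    obtain ⟨d, hd, rfl⟩ := mem_cj'.1 hd0
    obtain ⟨d', hd', e⟩ := mem_quo.1 (JR.conj_mem_of_mem_norm hg
      (coset_mem_quo (x := ⟨d, hD hd⟩) hd))
    rw [← map_inv, ← map_mul, ← map_mul] at e
    exact (show (d' : G) = g * d * (g : G)⁻¹ from lift _ _ (h.cube _ hd') (cub g d hd) e) ▸ hd'
  have cT : ∀ g d : 𝒩(zpowers r), (d : G) ∈ four z w → coset _ g * coset _ d = coset _ d * coset _ g →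
      (g : G) ∈ 𝒞[(d : G)] := fun g d hd e => by
    rw [← mul_inv_eq_iff_eq_mul, ← map_inv, ← map_mul, ← map_mul] at e
    exact mem_cent1.2 (mul_inv_eq_iff_eq_mul.1 (lift _ _ (cub g d hd) (h.cube _ hd) e))
  have mT : ∀ g : 𝒩(zpowers r), (g : G) ∈ 𝒞(four z w) → coset _ g ∈ quo (four z w) (zpowers r) :=
    fun g hg => (h.cD g hg).elim coset_mem_quo fun e => ⟨⟨_, hD e⟩, e, (cos_eq h.or).2 (Or.inr rfl)⟩
  have hS := (h.syl.sub hD le_top).quo (N := zpowers r) le_rfl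
  rw [quo_norm_self] at hS
  have eN : 𝒩(quo (four z w) (zpowers r)) = quo 𝒩(four z w) (zpowers r) :=
    le_antisymm (fun g hg => by
      obtain ⟨g, rfl⟩ := coset_surjective _ g
      exact coset_mem_quo (nT g hg)) (quo_norm _ le_rfl)
  let a : 𝒩(zpowers r) := ⟨s, h.ms⟩
  let b : 𝒩(zpowers r) := ⟨ρ, h.mρ⟩
  have aa : a * a = 1 := Subtype.ext h.ss
  have bb : b * b = 1 := Subtype.ext h.ρρ
  have iz : s * ρ * (s * ρ) * z * (s * ρ * (s * ρ))⁻¹ = z⁻¹ := by
    calc _ = s * (ρ * (s * (ρ * z * ρ⁻¹) * s⁻¹) * ρ⁻¹) * s⁻¹ := by group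
      _ = _ := by rw [h.ρz, ← conj_inv, h.sz, ← conj_inv, h.ρw, ← conj_inv, h.sw]
  have iw : s * ρ * (s * ρ) * w * (s * ρ * (s * ρ))⁻¹ = w⁻¹ := by
    calc _ = s * (ρ * (s * (ρ * w * ρ⁻¹) * s⁻¹) * ρ⁻¹) * s⁻¹ := by group
      _ = _ := by rw [h.ρw, h.sw, h.ρz, ← conj_inv, h.sz]
  have sq : ∀ x y : G, x * y * x⁻¹ = y⁻¹ → x * x * y = y * (x * x) := fun x y e => by
    rw [← mul_inv_eq_iff_eq_mul]
    calc _ = x * (x * y * x⁻¹) * x⁻¹ := by group
      _ = _ := by rw [e, ← conj_inv, e, inv_inv]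
  rcases H76.d8_core (T := quo (four z w) (zpowers r)) (r := coset _ (a * b)) (σ := coset _ b)
    ⟨fun t ht => by
      obtain ⟨d, hd, rfl⟩ := mem_quo.1 ht
      rw [← map_pow, show d ^ 3 = 1 from Subtype.ext (h.cube _ hd), map_one], by
      simpa using (isPiNat_compl_singleton Nat.prime_three).1 hS.index,
      le_antisymm (fun g hg => by
        obtain ⟨g, rfl⟩ := coset_surjective _ g
        exact mT g fun d hd => (mem_cent1.1 (cT g ⟨d, hD hd⟩ hd
          (hg _ (coset_mem_quo hd)).symm)).symm) (quo_cent _ h.ab), fun t ht t1 g hg => by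
      obtain ⟨d, hd, rfl⟩ := mem_quo.1 ht
      obtain ⟨g, rfl⟩ := coset_surjective _ g
      have e := cT g d hd (mem_cent1.1 hg)
      have gr := (norm_inv h.or).le g.2
      refine eN.ge (coset_mem_quo ?_)
      rcases h.cent_cases hd (fun e' => t1 (by rw [show d = 1 from Subtype.ext e', map_one])) with
        e' | e' | e'
      · exact h.czr ⟨e' ▸ e, gr⟩
      · rw [e', h.cw] at e
        have := h.czr (mem_inf.2 ⟨mem_cj.1 e,
          mul_mem (mul_mem (inv_mem (h.Nr h.sN)) gr) (h.Nr h.sN)⟩)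
        rwa [mul_mem_cancel_right h.sN, mul_mem_cancel_left (inv_mem h.sN)] at this
      · exact e' e⟩
    ((card_quo_of_disjoint hD (h.pi.inf_eq_bot (hp.compl_singleton_of_ne (by decide)))).trans h.card)
    (by
      have := card_mul_card_quo (zpowers_le.2 (cent_le_norm _ h.rD)) hN
      rw [Nat.card_zpowers, h.or, h.cardN] at this
      rw [eN]; omega)
    (eN.ge (coset_mem_quo (mul_mem h.sN h.ρN))) (eN.ge (coset_mem_quo h.ρN))
    (by
      simp only [← map_mul]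
      exact mT _ (mem_cent_four.2 ⟨sq _ _ iz, sq _ _ iw⟩))
    (fun e => by
      rw [← map_mul] at e
      have := mem_cent1.1 (cT _ ⟨z, h.mz⟩ (left_mem_four z w)
        (quo_cent _ h.ab e _ (coset_mem_quo (left_mem_four z w))).symm)
      change s * ρ * (s * ρ) * z = z * (s * ρ * (s * ρ)) at this
      rw [this, mul_inv_cancel_right, eq_inv_iff_mul_eq_one] at iz
      have := orderOf_dvd_of_pow_eq_one ((pow_two z).trans iz)
      rw [h.oz] at this
      omega)
    (by rw [← map_mul, bb, map_one]; exact one_mem _)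
    (by rw [← map_mul, ← map_mul, mul_assoc a, bb, mul_one, aa, map_one]; exact one_mem _) with
    hn | ⟨⟨e⟩⟩
  · exact Or.inl ((norm_inv h.or).ge.trans fun g hg => nT ⟨g, hg⟩
      ((quo (four z w) (zpowers r)).normalizer_eq_top.ge (mem_top _)))
  · let f := e.toMonoidHom.comp (coset (zpowers r))
    have hf : ∀ a b, f a = f b ↔ (a : G) = b ∨ (a : G) = r * b := fun a b =>
      e.injective.eq_iff.trans (cos_eq h.or)
    let c : 𝒩(zpowers r) := ⟨z, h.mz⟩
    have c3 : (c : G) ^ 3 = 1 := h.cube _ (left_mem_four z w)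
    have := Fact.mk Nat.prime_three
    have ec : ((a * c * a⁻¹ : 𝒩(zpowers r)) : G) = w := h.sz
    obtain ⟨ω, e1, e2, e3⟩ := norm6 (a := f c) (c := f b) (d := f a) (orderOf_eq_prime (by
      rw [← map_pow, show c ^ 3 = 1 from Subtype.ext c3, map_one]) fun e' =>
        h.z1 (lift c 1 c3 (by simp) (e.injective (e'.trans (map_one f).symm))))
      (by rw [← map_mul, aa, map_one])
      (by rw [mcj f rfl]; exact mm f (Subtype.ext (by simpa [ec] using h.comm)))
      (by rw [mcj f rfl]; exact fun e' => h.ne (ec ▸ lift _ _ (cub a _ (left_mem_four z w)) c3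
        (e.injective e')))
      (by
        rw [mcj f rfl, ← map_inv]
        exact fun e' => h.ne' (ec ▸ lift _ _ (cub a _ (left_mem_four z w))
          (by rw [coe_inv, inv_pow, c3, inv_one]) (e.injective e')))
      (by rw [← map_mul, bb, map_one]) (map_inv f c ▸ mcj f (Subtype.ext h.ρz))
      (by
        rw [mcj f rfl]
        exact mm f (Subtype.ext (by simpa [ec] using mul_inv_eq_iff_eq_mul.1 h.ρw)))
    exact Or.inr ⟨ω.toMonoidHom.comp f, ω.surjective.comp (e.surjective.comp (coset_surjective _)),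
      fun a b => ω.injective.eq_iff.trans (hf a b), e1, e2, e3⟩

end RB

end Cfsg.Agent.H43.Alt8
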