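import Cfsg.Agent.H43.S8Two

/-! The exceptional case: the normaliser of `A₅ × A₅`. -/

set_option autoImplicit false
set_option linter.unusedSectionVars false
set_option synthInstance.maxSize 2000

namespace Cfsg.Agent.H43.Alt8

open Equiv Equiv.Perm Subgroup Cfsg Cfsg.Agent.H49 Cfsg.Agent.GW Function P

universe u

variable {G : Type u} [Group G] [Finite G]

namespace P

theorem g_Z : ∀ a : A5, (a * w5 = w5 * a → a * v5 = v5 * a → a = 1) ∧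
    ((j a)⁻¹ * r * w = w * ((j a)⁻¹ * r) → (j a)⁻¹ * r * v ≠ v * ((j a)⁻¹ * r)) := by
  decide +kernel

theorem g_inv : ∀ a : A5, a * a = 1 → a = 1 ∨ ∃ k, k * a * k⁻¹ = t5 := by decide +kernel

theorem g_r : ∀ a : A5, a * ρ5 a = 1 → ∃ k, k * a * (ρ5 k)⁻¹ = 1 := by decide +kernel

theorem g_t : ∀ a : A5, a * t5 = t5 * a → a * a = 1 ∧ (a = 1 ∨ a = t5 ∨ a = v5 ∨ a = t5 * v5) ∧
    (ρ5 a = a → a = 1 ∨ a = t5) := by decide +kernel

end P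

/-- the exceptional configuration -/
structure Ex (μ : A5 × A5 →* G) (r s : G) : Prop
    extends RB (μ (1, w5)) (μ (w5, 1)) (μ (1, t5)) (r * μ (t5, 1)) s r where
  inj : Injective μ
  hr : ∀ a b, r * μ (a, b) * r⁻¹ = μ (ρ5 a, ρ5 b)
  hs : ∀ a b, s * μ (a, b) * s⁻¹ = μ (b, a)
  hX : ∀ g ∈ 𝒩(zpowers (μ (1, w5))), ∃ n, g = μ n ∨ g = μ n * r
  cr : 𝒞[r] ≤ 𝒩(four (μ (1, w5)) (μ (w5, 1)))
  syl_t : IsSylowOf 3 (zpowers (μ (1, w5))) 𝒞[μ (t5, 1)]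
  rN : r ∉ μ.range
  cV : ∀ g, g * μ (1, w5) = μ (1, w5) * g → g * μ (t5, 1) = μ (t5, 1) * g →
    g * μ (v5, 1) = μ (v5, 1) * g → g ∈ μ.range

theorem P.f_V : ∀ b : Perm (Fin 5), b * t.2 = t.2 * b → b * v.2 = v.2 * b → sign b = 1 := by
  decide +kernel

theorem Cf.ex {ι : KK →* G} {s : G} (h : Cf ι s) (h2 : h.κ σ = ι t) : Ex (h.μ h2) (ι r) s := by
  have m1 : ∀ a, h.μ h2 (a, 1) = ι (j a) := fun a => by rw [h.μ_def, map_one, map_one, mul_one]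
  have m2 : ∀ a, h.μ h2 (1, a) = h.κ (j a) := fun a => by rw [h.μ_def, map_one, map_one, one_mul]
  have e1 : h.μ h2 (1, w5) = ι z := (m2 _).trans h.κw
  have e2 : h.μ h2 (w5, 1) = ι w := m1 _
  have e3 : h.μ h2 (1, t5) = ι σ := (m2 _).trans (h.κsymm h2)
  have e4 : ι r * h.μ h2 (t5, 1) = ι τ := by
    rw [m1, ← map_mul]; exact congrArg ι (by decide +kernel)
  have e5 : ∀ a, ι (a, 1) ∈ (h.μ h2).range :=
    top_of_swaps (H := ((h.μ h2).range.comap ι).comap (MonoidHom.inl _ _)) fun i => by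
      have m3 : σ ∈ (h.μ h2).range.comap ι := ⟨_, e3⟩
      have m4 : z ∈ (h.μ h2).range.comap ι := ⟨_, e1⟩
      fin_cases i
      · exact m3
      · have := mul_mem (mul_mem m4 m3) (inv_mem m4)
        rwa [show z * σ * z⁻¹ = (swap 1 2, 1) by decide +kernel] at this
  have e6 : ∀ x : KK, sign x.2 = 1 → ι x ∈ (h.μ h2).range := fun x hx => by
    rw [← Prod.fst_mul_snd x, map_mul]
    exact mul_mem (e5 _) ⟨(⟨x.2, mem_alternatingGroup.2 hx⟩, 1), m1 _⟩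
  refine ⟨by rw [e1, e2, e3, e4]; exact h.toRB, (injective_iff_map_eq_one _).2 ?_, fun a b => ?_,
    fun a b => ?_, fun g hg => ?_, by rw [e1, e2]; exact h.cent_r2 h2, by
      rw [e1, m1]; exact h.syl_t, ?_, fun g h3 h4 h5 => ?_⟩
  · rintro ⟨a, b⟩ e
    rw [h.μ_def] at e
    have key : ∀ x, a * x = x * a := fun x => by
      have := (h.comm5 h2 x b).inv_right
      change Commute (ι (j x)) (h.κ (j b))⁻¹ at this
      rw [← eq_inv_of_mul_eq_one_left e] at this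
      exact Subtype.ext (congrArg Prod.snd (mm' h.inj this)).symm
    obtain rfl := (g_Z a).1 (key _) (key _)
    rw [map_one, map_one, one_mul, map_eq_one_iff _ h.κinj] at e
    rw [show b = 1 from Subtype.ext (congrArg Prod.snd e)]; rfl
  · rw [h.μ_def, h.μ_def, ← conj_mul, mcj ι (j_ρ5 a), ← h.κr, mcj h.κ (j_ρ5 b)]
  · rw [h.μ_def, h.μ_def, ← conj_mul, ← h.κ_def, h.κ_def (j b), ← mul_assoc s,
      ← mul_assoc s, h.ss, one_mul, mul_assoc _ s⁻¹, ← mul_inv_rev, h.ss, inv_one, mul_one]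
    exact (h.comm5 h2 b a).symm
  · obtain ⟨x, rfl⟩ := h.rg.ge (e1 ▸ hg)
    rcases Int.units_eq_one_or (sign x.2) with e | e
    · obtain ⟨n, hn⟩ := e6 x e
      exact ⟨n, Or.inl hn.symm⟩
    · obtain ⟨n, hn⟩ := e6 (x * r⁻¹) (by
        rw [Prod.snd_mul, map_mul, e]; decide +kernel)
      exact ⟨n, Or.inr (by rw [hn, ← map_mul, inv_mul_cancel_right])⟩
  · rintro ⟨⟨a, b⟩, e⟩
    rw [h.μ_def, ← eq_inv_mul_iff_mul_eq, ← map_inv, ← map_mul] at e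
    have key : ∀ x, (j a)⁻¹ * r * j x = j x * ((j a)⁻¹ * r) := fun x =>
      mm' h.inj (e ▸ (h.comm5 h2 x b).symm)
    exact (g_Z a).2 (key w5) (key v5)
  · rw [e1] at h3
    obtain ⟨x, rfl⟩ := h.pull h3
    rw [m1] at h4 h5
    exact e6 x (f_V _ (congrArg Prod.snd (mm' h.inj h4)) (congrArg Prod.snd (mm' h.inj h5)))

namespace Ex

variable {μ : A5 × A5 →* G} {r s : G} (h : Ex μ r s)
include h

theorem mr : r ∈ 𝒩(μ.range) := mem_norm_of_cj_le fun _ hx => by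
  obtain ⟨_, ⟨⟨a, b⟩, rfl⟩, rfl⟩ := mem_cj'.1 hx
  exact ⟨_, (h.hr a b).symm⟩

theorem ms' : s ∈ 𝒩(μ.range) := mem_norm_of_cj_le fun _ hx => by
  obtain ⟨_, ⟨⟨a, b⟩, rfl⟩, rfl⟩ := mem_cj'.1 hx
  exact ⟨_, (h.hs a b).symm⟩

omit h in
theorem mn (n : A5 × A5) : μ n ∈ 𝒩(μ.range) := le_normalizer ⟨n, rfl⟩

theorem XG : 𝒩(zpowers (μ (1, w5))) ≤ 𝒩(μ.range) := fun g hg => by
  obtain ⟨n, rfl | rfl⟩ := h.hX g hg
  exacts [mn n, mul_mem (mn n) h.mr]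

theorem se' : SE 𝒩(μ.range) := h.se h.XG h.ms'

theorem crG : 𝒞[r] ≤ 𝒩(μ.range) := h.cr.trans fun _ hg =>
  (h.normD hg).elim (fun e => h.XG e) fun e => (mul_mem_cancel_left h.ms').1 (h.XG e)

theorem dec {g : G} (hg : g ∈ 𝒩(μ.range)) :
    ∃ n, (g = μ n ∨ g = μ n * r) ∨ g = μ n * s ∨ g = μ n * (r * s) := by
  obtain ⟨_, ⟨m, rfl⟩, k, hk, rfl⟩ := (frattini_arg le_normalizer le_rfl (h.syl.sub
    (four_le ⟨_, rfl⟩ ⟨_, rfl⟩ : _ ≤ μ.range) le_top)).2.2 g hg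
  rcases h.normD hk.2 with e | e
  · obtain ⟨n, rfl | rfl⟩ := h.hX _ e
    · exact ⟨m * n, Or.inl (Or.inl (map_mul _ _ _).symm)⟩
    · exact ⟨m * n, Or.inl (Or.inr (by rw [map_mul, mul_assoc]))⟩
  · obtain ⟨⟨a, b⟩, e'⟩ := h.hX _ e
    rw [← eq_inv_mul_iff_mul_eq, ← eq_inv_mul_iff_mul_eq, h.si] at e'
    refine ⟨m * (b, a), Or.inr (e'.imp ?_ ?_)⟩ <;> rintro rfl <;> rw [map_mul, ← h.hs a b]
    · group
    · rw [← h.sr]; group

theorem rs2 : r * s * (r * s) = 1 := by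
  rw [mul_assoc, ← mul_assoc s, h.sr, mul_assoc, h.ss, mul_one, h.rr]

theorem sq {g : G} (hg : g ∈ 𝒩(μ.range)) : g * g ∈ μ.range := by
  have key : ∀ n, ∀ e ∈ 𝒩(μ.range), e * e = 1 → μ n * e * (μ n * e) ∈ μ.range := fun n e he ee => by
    rw [show μ n * e * (μ n * e) = μ n * (e * μ n * e⁻¹) * (e * e) by group, ee, mul_one]
    exact mul_mem ⟨n, rfl⟩ (JR.conj_mem_of_mem_norm he ⟨n, rfl⟩)
  obtain ⟨n, (rfl | rfl) | rfl | rfl⟩ := h.dec hg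
  exacts [mul_mem ⟨n, rfl⟩ ⟨n, rfl⟩, key n r h.mr h.rr, key n s h.ms' h.ss,
    key n _ (mul_mem h.mr h.ms') h.rs2]

theorem inv_s {x : G} (xx : x * x = 1) {n : A5 × A5} (hx : x = μ n * s ∨ x = μ n * (r * s)) :
    IsConj s x ∨ IsConj (r * s) x := by
  have key : ∀ (y : G) (θ : A5 →* A5), y * y = 1 → (∀ a b, y * μ (a, b) * y⁻¹ = μ (θ b, θ a)) →
      x = μ n * y → IsConj y x := by
    rintro y θ yy hy rfl
    obtain ⟨a, b⟩ := n
    rw [show μ (a, b) * y * (μ (a, b) * y) = μ (a, b) * (y * μ (a, b) * y⁻¹) * (y * y) by group,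
      yy, mul_one, hy, ← map_mul, map_eq_one_iff _ h.inj] at xx
    refine isConj_iff.2 ⟨μ (a, 1), ?_⟩
    rw [← map_inv, mul_assoc, Prod.inv_mk, mul_inv_eq_iff_eq_mul.1 (hy a⁻¹ 1⁻¹), ← mul_assoc,
      ← map_mul, map_inv, map_inv, ← eq_inv_of_mul_eq_one_left (congrArg Prod.snd xx : b * θ a = 1)]
    simp
  exact hx.imp (key s (MonoidHom.id _) h.ss h.hs) (key _ ρ5 h.rs2 fun a b => by
    rw [← h.hr, ← h.hs a b]; group)

theorem inv_n {x : G} (xx : x * x = 1) {n : A5 × A5} (hx : x = μ n ∨ x = μ n * r) :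
    (∃ a, x = μ (a, 1) ∨ x = μ (1, a)) ∨ ∃ m, μ m * x * (μ m)⁻¹ = μ (t5, t5) ∨
      μ m * x * (μ m)⁻¹ = r := by
  obtain ⟨a, b⟩ := n
  rcases hx with rfl | rfl
  · rw [← map_mul, map_eq_one_iff _ h.inj] at xx
    rcases g_inv a (congrArg Prod.fst xx) with rfl | ⟨k, hk⟩
    · exact Or.inl ⟨b, Or.inr rfl⟩
    rcases g_inv b (congrArg Prod.snd xx) with rfl | ⟨l, hl⟩
    · exact Or.inl ⟨a, Or.inl rfl⟩
    exact Or.inr ⟨(k, l), Or.inl (mcj μ (Prod.ext hk hl))⟩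
  · rw [show μ (a, b) * r * (μ (a, b) * r) = μ (a, b) * (r * μ (a, b) * r⁻¹) * (r * r) by group,
      h.rr, mul_one, h.hr, ← map_mul, map_eq_one_iff _ h.inj] at xx
    obtain ⟨k, hk⟩ := g_r a (congrArg Prod.fst xx)
    obtain ⟨l, hl⟩ := g_r b (congrArg Prod.snd xx)
    refine Or.inr ⟨(k, l), Or.inr ?_⟩
    rw [show μ (k, l) * (μ (a, b) * r) * (μ (k, l))⁻¹ =
      μ (k, l) * μ (a, b) * (r * μ (k, l) * r⁻¹)⁻¹ * r by group, h.hr, ← map_inv, ← map_mul,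
      ← map_mul, show (k, l) * (a, b) * (ρ5 k, ρ5 l)⁻¹ = 1 from Prod.ext hk hl, map_one, one_mul]

theorem ot : orderOf (μ (t5, 1)) = 2 := ord2 h.inj (by decide +kernel)

theorem ob : orderOf (μ (t5, t5)) = 2 := ord2 h.inj (by decide +kernel)

theorem conj_t {x : G} {a : A5} (ox : orderOf x = 2) (hx : x = μ (a, 1) ∨ x = μ (1, a)) :
    ∃ k ∈ 𝒩(μ.range), k * x * k⁻¹ = μ (t5, 1) := by
  have key : ∀ y : A5 × A5, orderOf (μ y) = 2 → (y = (a, 1) ∨ y = (1, a)) →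
      ∃ k, k * a * k⁻¹ = t5 := fun y oy hy => by
    have := ord2' h.inj oy
    rcases hy with rfl | rfl
    · exact (g_inv a (congrArg Prod.fst this.1)).resolve_left fun e => this.2 (by rw [e]; rfl)
    · exact (g_inv a (congrArg Prod.snd this.1)).resolve_left fun e => this.2 (by rw [e]; rfl)
  rcases hx with rfl | rfl
  · obtain ⟨k, hk⟩ := key _ ox (Or.inl rfl)
    exact ⟨_, mn (k, 1), mcj μ (Prod.ext hk (by simp))⟩
  · obtain ⟨k, hk⟩ := key _ ox (Or.inr rfl)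
    refine ⟨μ (k, 1) * s, mul_mem (mn _) h.ms', ?_⟩
    rw [← mcj μ (show (k, 1) * (a, 1) * (k, 1)⁻¹ = (t5, 1) from Prod.ext hk (by simp)), ← h.hs 1 a]
    group

theorem rc {a b : A5} (e : ρ5 a = a ∧ ρ5 b = b) : r * μ (a, b) = μ (a, b) * r := by
  rw [← mul_inv_eq_iff_eq_mul, h.hr, e.1, e.2]

theorem rt : ¬ IsConj r (μ (t5, 1)) :=
  h.not_conj (by rw [← map_mul]; exact h.rc (by decide +kernel)) h.syl_t

theorem st {x : G} (hx : IsConj s x ∨ IsConj (r * s) x) : ¬ IsConj r x ∧ ¬ IsConj (μ (t5, 1)) x := by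
  refine ⟨fun e => hx.elim (fun e' => h.rs (e.trans e'.symm)) fun e' => h.rrs (e.trans e'.symm),
    fun e => hx.elim (fun e' => h.not_conj h.sy h.syl_t (e'.trans e.symm)) fun e' =>
      h.not_conj ?_ h.syl_t (e'.trans e.symm)⟩
  rw [mul_assoc, h.sy, ← mul_assoc, ← map_mul, h.rc (by decide +kernel), mul_assoc]

theorem rb : ¬ IsConj r (μ (t5, t5)) := fun e => by
  obtain ⟨g, hg⟩ := isConj_iff.1 e.symm
  have e1 : r * μ (v5, v5) * (r * μ (v5, v5)) = μ (t5, t5) := by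
    rw [show r * μ (v5, v5) * (r * μ (v5, v5)) = r * μ (v5, v5) * r⁻¹ * (r * r) * μ (v5, v5) by
      group, h.rr, mul_one, h.hr, ← map_mul]
    exact congrArg μ (by decide +kernel)
  generalize r * μ (v5, v5) = y at e1
  have := h.sq (h.crG (mem_cent1.2 (show g * y * g⁻¹ * r = r * (g * y * g⁻¹) by
    rw [← hg, ← e1, conj_mul, conj_mul, mul_assoc y])))
  rw [conj_mul, e1, hg] at this
  exact h.rN this

theorem fus_r (x : G) (hx : x ∈ 𝒩(μ.range)) (e : IsConj r x) :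
    ∃ k ∈ 𝒩(μ.range), k * x * k⁻¹ = r := by
  have ox := (H8.orderOf_eq_of_isConj e).symm.trans h.or
  obtain ⟨n, e1 | e1⟩ := h.dec hx
  · rcases h.inv_n (mul_self_of_inv ox) e1 with ⟨a, e2⟩ | ⟨m, e2 | e2⟩
    · obtain ⟨k, -, hk⟩ := h.conj_t ox e2
      exact absurd (e.trans (isConj_iff.2 ⟨k, hk⟩)) h.rt
    · exact absurd (e.trans (isConj_iff.2 ⟨_, e2⟩)) h.rb
    · exact ⟨_, mn m, e2⟩
  · exact absurd e (h.st (h.inv_s (mul_self_of_inv ox) e1)).1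

theorem cb {g : G} (hg : g ∈ 𝒞[μ (t5, t5)] ⊓ 𝒩(μ.range)) : g * g * (g * g) = 1 := by
  obtain ⟨⟨a, b⟩, e⟩ := h.sq hg.2
  have := mem_cent1.1 (mul_mem hg.1 hg.1)
  rw [← e] at this ⊢
  have := mm' h.inj this
  rw [← map_mul, show (a, b) * (a, b) = 1 from Prod.ext (g_t a (congrArg Prod.fst this)).1
    (g_t b (congrArg Prod.snd this)).1, map_one]

theorem rb' : r ∈ 𝒞[μ (t5, t5)] := mem_cent1.2 (h.rc (by decide +kernel))

theorem sb : s ∈ 𝒞[μ (t5, t5)] := mem_cent1.2 (mul_inv_eq_iff_eq_mul.1 (h.hs _ _))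

theorem sylT : IsSylowOf 2 (𝒞[μ (t5, t5)] ⊓ 𝒩(μ.range)) ⊤ := by
  refine sylowOf_of_norm_le (hall_self (isPi_of_isPGroup Nat.prime_two fun g => ⟨2, Subtype.ext (by
    rw [Subgroup.coe_pow, pow22]; exact h.cb g.2)⟩)) le_top (inf_le_right.trans fun g hg => ?_)
  have hG := sylow_of_fix inf_le_right ⟨h.rb', h.mr⟩ h.crG h.fus_r hg
  obtain ⟨⟨a, b⟩, e⟩ := JR.conj_mem_of_mem_norm hG ⟨(t5, t5), rfl⟩
  have key : ∀ x ∈ 𝒞[μ (t5, t5)] ⊓ 𝒩(μ.range), x * μ (a, b) = μ (a, b) * x := fun x hx => by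
    have := mem_cent1.1 (JR.conj_mem_of_mem_norm (inv_mem hg) hx).1
    rw [e]
    calc _ = g * (g⁻¹ * x * g⁻¹⁻¹ * μ (t5, t5)) * g⁻¹ := by group
      _ = _ := by rw [this]; group
  have e1 := mm' h.inj (key _ ⟨self_mem_cent1 _, mn _⟩)
  have e2 := key r ⟨h.rb', h.mr⟩
  have e3 := key s ⟨h.sb, h.ms'⟩
  rw [← mul_inv_eq_iff_eq_mul, h.hr] at e2
  rw [← mul_inv_eq_iff_eq_mul, h.hs] at e3
  obtain rfl : b = a := congrArg Prod.fst (h.inj e3)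
  refine ⟨mem_cent1.2 (mul_inv_eq_iff_eq_mul.1 ?_), hG⟩
  rcases (g_t b (congrArg Prod.fst e1).symm).2.2 (congrArg Prod.fst (h.inj e2)) with rfl | rfl
  · exact absurd (conj_eq_one_iff.1 (e.symm.trans (map_one μ))) (ne_one_of_inv h.ob)
  · exact e.symm

theorem tb : ¬ IsConj (μ (t5, 1)) (μ (t5, t5)) := fun e => by
  obtain ⟨g, hg⟩ := isConj_iff.1 e
  have cj1 : cj g 𝒞[μ (t5, 1)] = 𝒞[μ (t5, t5)] := by rw [cj_cent1, hg]
  obtain ⟨c, hc, e1⟩ := sylowOf_subJ (h.sylT.sub inf_le_left le_top) (zpowers_le.2 (cj1.le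
    (conj_mem_cj.2 (mem_cent1.2 (h.rc (by decide +kernel)))))) (isPi_two_zpowers (by
      rw [conj_mul, h.rr]; simp))
  obtain ⟨k, hk, e2⟩ := h.fus_r _ (e1 (conj_mem_cj.2 (mem_zpowers _))).2
    ((isConj_iff.2 ⟨g, rfl⟩ : IsConj r _).trans (isConj_iff.2 ⟨c, rfl⟩))
  have h1 : c * g ∈ 𝒩(μ.range) := (mul_mem_cancel_left hk).1 (h.crG (mem_cent1.2
    (mul_inv_eq_iff_eq_mul.1 (Eq.trans (by group) e2))))
  have := h.cb (g := c * g * μ (1, w5) * (c * g)⁻¹) (mem_inf.2 ⟨by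
    rw [show c * g * μ (1, w5) * (c * g)⁻¹ = c * (g * μ (1, w5) * g⁻¹) * c⁻¹ by group]
    exact mul_mem (mul_mem hc (cj1.le (conj_mem_cj.2 (mem_cent1.2 (mm μ (by decide +kernel))))))
      (inv_mem hc), mul_mem (mul_mem h1 (mn _)) (inv_mem h1)⟩)
  rw [conj_mul, conj_mul, conj_eq_one_iff, ← map_mul, ← map_mul, map_eq_one_iff _ h.inj] at this
  exact absurd this (by decide +kernel)

theorem atype {x : G} (hx : x ∈ 𝒩(μ.range)) (e : IsConj (μ (t5, 1)) x) :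
    ∃ a, x = μ (a, 1) ∨ x = μ (1, a) := by
  have ox := mul_self_of_inv ((H8.orderOf_eq_of_isConj e).symm.trans h.ot)
  obtain ⟨n, e1 | e1⟩ := h.dec hx
  · refine (h.inv_n ox e1).resolve_right ?_
    rintro ⟨m, e2 | e2⟩
    · exact h.tb (e.trans (isConj_iff.2 ⟨_, e2⟩))
    · exact h.rt (e.trans (isConj_iff.2 ⟨_, e2⟩)).symm
  · exact absurd e (h.st (h.inv_s ox e1)).2

theorem fus_t (x : G) (hx : x ∈ 𝒩(μ.range)) (e : IsConj (μ (t5, 1)) x) :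
    ∃ k ∈ 𝒩(μ.range), k * x * k⁻¹ = μ (t5, 1) :=
  let ⟨_, e1⟩ := h.atype hx e
  h.conj_t ((H8.orderOf_eq_of_isConj e).symm.trans h.ot) e1

end Ex

end Cfsg.Agent.H43.Alt8
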