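import Cfsg.Agent.H43.S8Cf

/-! The exceptional case: two commuting copies of `A₅`. -/

set_option autoImplicit false
set_option linter.unusedSectionVars false
set_option synthInstance.maxSize 2000

namespace Cfsg.Agent.H43.Alt8

open Equiv Equiv.Perm Subgroup Cfsg Cfsg.Agent.H49 Cfsg.Agent.GW Function P

universe u

variable {G : Type u} [Group G] [Finite G]

theorem f6d : ∀ g : P6, g * swap 0 1 = swap 0 1 * g →
    g * swap 3 4 * g⁻¹ * swap 3 4 = swap 3 4 * (g * swap 3 4 * g⁻¹) →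
    g * swap 3 4 * g⁻¹ = swap 3 4 ∨ g * swap 3 4 * g⁻¹ = swap 2 5 := by decide +kernel

theorem P.f_σrt : ∀ g : KK, g * σ = σ * g → g * r = r * g → g * t = t * g →
    (g = 1 ∨ g = σ) ∨ (t * g = 1 ∨ t * g = σ) ∨ g * g = 1 ∧ ∃ a ∈ [1, σ, t, σ * t], g = r * a := by
  decide +kernel

/-- the alternating group of degree five -/
abbrev A5 := alternatingGroup (Fin 5)

namespace P

def w5 : A5 := ⟨w.2, mem_alternatingGroup.2 (by decide +kernel)⟩
def t5 : A5 := ⟨t.2, mem_alternatingGroup.2 (by decide +kernel)⟩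
def v5 : A5 := ⟨v.2, mem_alternatingGroup.2 (by decide +kernel)⟩
def c5 : A5 := ⟨c.2, mem_alternatingGroup.2 (by decide +kernel)⟩

/-- the embedding -/
def j : A5 →* KK := (MonoidHom.inr _ _).comp A5.subtype

/-- conjugation by a transposition -/
def ρ5 : A5 →* A5 where
  toFun a := ⟨swap 0 1 * a.1 * (swap 0 1)⁻¹, Normal.conj_mem inferInstance _ a.2 _⟩
  map_one' := Subtype.ext (by simp)
  map_mul' _ _ := Subtype.ext conj_mul.symm

theorem j_ρ5 (a : A5) : r * j a * r⁻¹ = j (ρ5 a) := Prod.ext (by simp [j, r]) rfl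

theorem f_gen : ∀ a : A5, ∃ i ∈ [1, c5, c5⁻¹, c5 * c5, (c5 * c5)⁻¹],
    ∃ k ∈ [1, w5 * (c5⁻¹ * w5 * c5)], ∃ l ∈ [1, c5⁻¹ * w5 * c5 * w5], ∃ m ∈ [1, w5, w5⁻¹],
      a = i * k * l * m := by decide +kernel

theorem gen5 {H : Subgroup A5} (h1 : w5 ∈ H) (h2 : v5 * w5 * v5⁻¹ ∈ H) (a : A5) : a ∈ H := by
  have hc := mul_mem h1 h2
  rw [show w5 * (v5 * w5 * v5⁻¹) = c5 by decide +kernel] at hc
  have h3 := mul_mem (mul_mem (inv_mem hc) h1) hc
  obtain ⟨i, hi, k, hk, l, hl, m, hm, rfl⟩ := f_gen a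
  simp only [List.mem_cons, List.not_mem_nil, or_false] at hi hk hl hm
  refine mul_mem (mul_mem (mul_mem ?_ ?_) ?_) ?_
  · rcases hi with rfl | rfl | rfl | rfl | rfl
    exacts [one_mem _, hc, inv_mem hc, mul_mem hc hc, inv_mem (mul_mem hc hc)]
  · rcases hk with rfl | rfl
    exacts [one_mem _, mul_mem h1 h3]
  · rcases hl with rfl | rfl
    exacts [one_mem _, mul_mem h3 h1]
  · rcases hm with rfl | rfl | rfl
    exacts [one_mem _, h1, inv_mem h1]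

end P

namespace Cf

variable {ι : KK →* G} {s : G} (h : Cf ι s) (h2 : h.κ σ = ι t)
include h h2

theorem κτ : h.κ τ = ι r * ι σ := by
  rw [show τ = r * t by decide +kernel, map_mul, h.κr, h.κsymm h2]

theorem vr : h.κ v * ι r * (h.κ v)⁻¹ = ι r * ι σ := by
  rw [← h.κτ h2, ← h.κr]; exact mcj h.κ (by decide +kernel)

theorem vr' : h.κ v * (ι r * ι σ) * (h.κ v)⁻¹ = ι r := by
  rw [← h.κτ h2, ← h.κr]; exact mcj h.κ (by decide +kernel)

theorem vc {k : G} (e1 : k * ι r = ι r * k) (e2 : k * ι σ = ι σ * k) :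
    h.κ v * k * (h.κ v)⁻¹ * ι r = ι r * (h.κ v * k * (h.κ v)⁻¹) := by
  rw [← h.vr' h2, conj_mul, conj_mul, (Commute.mul_right e1 e2).eq]

theorem vσ : h.κ v * ι σ = ι σ * h.κ v := h.κsymm h2 ▸ mm h.κ (by decide +kernel)

theorem vt : h.κ v * ι t = ι t * h.κ v := h2 ▸ mm h.κ (by decide +kernel)

theorem cent_r2 : 𝒞[ι r] ≤ 𝒩(four (ι z) (ι w)) := by
  refine h.cent_r.resolve_right ?_
  rintro ⟨f, hf, hk, -, fσ, fs⟩
  have hN := (norm_inv h.or).ge
  have cr : ∀ k : 𝒩(zpowers (ι r)), (k : G) * ι r = ι r * k := fun k =>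
    mem_cent1.1 ((norm_inv h.or).le k.2)
  have rσ : IsConj (ι r) (ι r * ι σ) := isConj_iff.2 ⟨_, h.vr h2⟩
  have Tcj : ∀ k b : 𝒩(zpowers (ι r)), IsConj (ι r) (ι r * b) →
      IsConj (ι r) (ι r * (k * b * k⁻¹ : 𝒩(zpowers (ι r)))) := fun k b e =>
    e.trans (isConj_iff.2 ⟨k, by rw [← mul_assoc, cr]; simp only [Subgroup.coe_mul,
      Subgroup.coe_inv, mul_assoc]⟩)
  have cj' : ∀ k b : 𝒩(zpowers (ι r)), IsConj (ι t) b →
      IsConj (ι t) (k * b * k⁻¹ : 𝒩(zpowers (ι r))) := fun k b e =>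
    e.trans (isConj_iff.2 ⟨k, rfl⟩)
  have lift : ∀ a b : 𝒩(zpowers (ι r)), IsConj (ι t) a → IsConj (ι r) (ι r * b) → f a = f b →
      a = b := fun a b e1 e2 e => Subtype.ext (((hk a b).1 e).resolve_right fun e' =>
    h.rt (e2.trans (e' ▸ e1.symm)))
  let cσ : 𝒩(zpowers (ι r)) := ⟨_, h.mρ⟩
  let cs : 𝒩(zpowers (ι r)) := ⟨_, h.ms⟩
  obtain ⟨ct, et, ft, rt⟩ : ∃ ct : 𝒩(zpowers (ι r)), (ct : G) = ι t ∧ f ct = swap 3 4 ∧
      IsConj (ι r) (ι r * ct) :=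
    ⟨cs * cσ * cs⁻¹, h2, by rw [← mcj f rfl, fs, fσ]; decide +kernel, Tcj cs cσ rσ⟩
  have tt : IsConj (ι t) ct := et ▸ IsConj.refl _
  have tσ : IsConj (ι t) cσ := (isConj_iff.2 ⟨s, h2⟩).symm
  obtain ⟨k, hk1⟩ := hf (swap 2 3 * swap 4 5)
  have kσ : k * cσ * k⁻¹ = cσ := lift _ _ (cj' k _ tσ) rσ (by
    rw [← mcj f rfl, hk1, fσ]; decide +kernel)
  have f3 : f (k * ct * k⁻¹) = swap 2 5 := by rw [← mcj f rfl, hk1, ft]; decide +kernel
  have c3 : k * ct * k⁻¹ * ct * (k * ct * k⁻¹)⁻¹ = ct := lift _ _ (cj' _ _ tt) rt (by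
    rw [← mcj f rfl, f3, ft]; decide +kernel)
  have kσ' : (k : G) * ι σ = ι σ * k := mul_inv_eq_iff_eq_mul.1 (congrArg Subtype.val kσ)
  have vσ := mul_inv_eq_iff_eq_mul.2 (h.vσ h2)
  have vt := mul_inv_eq_iff_eq_mul.2 (h.vt h2)
  let y : 𝒩(zpowers (ι r)) := ⟨h.κ v * k * (h.κ v)⁻¹, hN (mem_cent1.2 (h.vc h2 (cr k) kσ'))⟩
  have ex : ((y * ct * y⁻¹ : 𝒩(zpowers (ι r))) : G) =
      h.κ v * (k * ct * k⁻¹ : 𝒩(zpowers (ι r))) * (h.κ v)⁻¹ := by
    simp only [Subgroup.coe_mul, et, Subgroup.coe_inv, y]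
    nth_rw 1 [← vt]
    group
  rcases f6d (f y) (fσ ▸ mm f (Subtype.ext (by
    change _ * ι σ = ι σ * _
    rw [← vσ, conj_mul, conj_mul, kσ']))) (by
    rw [← ft, mcj f rfl]
    refine mm f (Subtype.ext ?_)
    rw [Subgroup.coe_mul, Subgroup.coe_mul _ ct, ex, et, ← vt, conj_mul, conj_mul, ← et,
      ← Subgroup.coe_mul, mul_inv_eq_iff_eq_mul.1 c3, Subgroup.coe_mul]) with e | e <;>
    rw [← ft, mcj f rfl] at e
  · have e1 := congrArg Subtype.val (lift _ _ (cj' y _ tt) rt e)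
    rw [ex, et, ← vt, mul_left_inj, mul_right_inj, ← et] at e1
    rw [Subtype.ext e1, ft] at f3
    exact absurd f3 (by decide +kernel)
  · have e1 := congrArg Subtype.val (lift _ _ (cj' y _ tt) (Tcj k _ rt) (e.trans f3.symm))
    rw [ex] at e1
    obtain ⟨g, hg⟩ := hf (swap 0 3 * swap 0 2 * (swap 1 4 * swap 1 5))
    have g1 : g * ct * g⁻¹ = cσ := lift _ _ (cj' g _ tt) rσ (by
      rw [← mcj f rfl, hg, ft, fσ]; decide +kernel)
    have g2 : g * (k * ct * k⁻¹) * g⁻¹ = ct := lift _ _ (cj' g _ (cj' k _ tt)) rt (by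
      rw [← mcj f rfl, hg, ft, f3]; decide +kernel)
    have g3 : IsConj (ι r) (ι r * (ct * (k * ct * k⁻¹) : 𝒩(zpowers (ι r)))) := by
      have := Tcj g⁻¹ (cσ * ct) (by
        rw [Subgroup.coe_mul, et, ← map_mul, ← map_mul]
        exact rσ.trans (map_mul ι r σ ▸ mconj ι (isConj_iff.2 ⟨v, by decide +kernel⟩)))
      nth_rw 1 [← g2, ← g1] at this
      rwa [conj_mul, show ∀ a, g⁻¹ * (g * a * g⁻¹) * g⁻¹⁻¹ = a from fun a => by group] at this
    have g4 : IsConj (ι r) (ι r * (cσ * (ct * (k * ct * k⁻¹)) : 𝒩(zpowers (ι r)))) :=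
      g3.trans (isConj_iff.2 ⟨h.κ v, by
        rw [Subgroup.coe_mul _ cσ, Subgroup.coe_mul _ ct, ← conj_mul, ← conj_mul,
          h.vr h2, e1, et, vt, mul_assoc]⟩)
    obtain ⟨l, hl⟩ := hf (swap 1 3)
    have g5 := Tcj l _ g4
    rcases (hk (l * (cσ * (ct * (k * ct * k⁻¹))) * l⁻¹) cs).1 (by
      rw [← mcj f rfl, hl, map_mul, map_mul, f3, ft, fσ, fs]; decide +kernel) with e2 | e2 <;>
      rw [e2] at g5
    · exact h.rrs g5
    · rw [← mul_assoc, h.rr, one_mul] at g5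
      exact h.rs g5

theorem comm0 : Commute (ι (v * w * v⁻¹)) (h.κ (v * w * v⁻¹)) := by
  have c1 : Commute (h.κ v) (ι σ) := h.vσ h2
  have c2 : Commute (h.κ v) (ι t) := h.vt h2
  have c3 : Commute (h.κ v) (ι w) := h.κz ▸ mm h.κ (by decide +kernel)
  have x1 : Commute (ι v * h.κ v * (ι v)⁻¹) (ι σ) :=
    have c : Commute (ι v) (ι σ) := mm ι (by decide +kernel)
    (c.mul_left c1).mul_left c.inv_left
  have x2 : Commute (ι v * h.κ v * (ι v)⁻¹) (ι t) :=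
    have c : Commute (ι v) (ι t) := mm ι (by decide +kernel)
    (c.mul_left c2).mul_left c.inv_left
  have x3 : ι v * h.κ v * (ι v)⁻¹ * (ι r * ι σ) * (ι v * h.κ v * (ι v)⁻¹)⁻¹ = ι r := by
    rw [← map_mul, show r * σ = v * (r * σ * t) * v⁻¹ by decide +kernel, ← mcj ι rfl, conj_mul,
      conj_inv, conj_mul, map_mul, map_mul, ← conj_mul (a := ι r * ι σ) (b := h.κ v), h.vr' h2, c2.eq,
      mul_inv_cancel_right, ← map_mul]
    exact mcj ι (by decide +kernel)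
  have x4 : ι v * h.κ v * (ι v)⁻¹ * h.κ v * ι r = ι r * (ι v * h.κ v * (ι v)⁻¹ * h.κ v) := by
    rw [← h.vr h2] at x3
    exact mul_inv_eq_iff_eq_mul.1 (Eq.trans (by group) x3)
  have x5 := x1.mul_left c1
  have x6 := x2.mul_left c2
  have vv : h.κ v * h.κ v = 1 := by rw [← map_mul, show v * v = 1 by decide +kernel, map_one]
  have vi : ι v * ι v = 1 := by rw [← map_mul, show v * v = 1 by decide +kernel, map_one]
  obtain ⟨c, hc⟩ : ∃ c, ι c = ι v * h.κ v * (ι v)⁻¹ * h.κ v := by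
    refine h.rg.ge ((h.normD (h.cent_r2 h2 (mem_cent1.2 x4))).resolve_right fun e => ?_)
    obtain ⟨c, hc⟩ := h.rg.ge e
    have : ι (c * σ * c⁻¹) = ι t := by
      rw [← mcj ι rfl, hc, mul_assoc s, x5.eq, ← h2, h.κ_def σ]; group
    exact absurd (conj_eq_one_iff.1 (congrArg Prod.fst (h.inj this))) (by decide +kernel)
  rw [← hc] at x4 x5 x6
  have key : ∀ e d : KK, d = 1 ∨ d = σ ∨ d = r ∨ d = r * σ → ι v * (ι e * h.κ v) * (ι v)⁻¹ =
      ι d * (h.κ v)⁻¹ → Commute (ι (v * w * v⁻¹)) (ι e * h.κ v * ι z * (ι e * h.κ v)⁻¹) :=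
    fun e d hd he => by
      have e1 : Commute (ι w) (ι d * (h.κ v)⁻¹) := Commute.mul_right (mm ι (by
        rcases hd with rfl | rfl | rfl | rfl <;> decide +kernel)) c3.symm.inv_right
      have e2 : Commute (ι (v * w * v⁻¹)) (ι e * h.κ v) := by
        rw [← he] at e1
        have := e1.conj (ι v)
        rw [mcj ι rfl, ← mul_assoc, ← mul_assoc, vi, one_mul, mul_assoc _ _ (ι v)⁻¹,
          ← mul_inv_rev, vi, inv_one, mul_one] at this
        exact this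
      exact (e2.mul_right (mm ι (by decide +kernel))).mul_right e2.inv_right
  have ez : h.κ (v * w * v⁻¹) = h.κ v * ι z * (h.κ v)⁻¹ := by rw [← mcj h.κ rfl, h.κw]
  rcases f_σrt c (mm' h.inj x5) (mm' h.inj x4) (mm' h.inj x6) with e | e | ⟨e, a, ha, rfl⟩
  · simpa [ez] using key 1 c (by tauto) (by rw [hc]; simp)
  · have := key r (r * (t * c)) (by rcases e with e | e <;> simp [e]) (by
      rw [← conj_mul, mcj ι (show v * r * v⁻¹ = r * t by decide +kernel), ← mul_assoc r, map_mul _ _ c,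
        hc]; group)
    rw [show ι r * h.κ v * ι z * (ι r * h.κ v)⁻¹ = ι r * (h.κ v * ι z * (h.κ v)⁻¹) * (ι r)⁻¹ by group,
      ← ez, ← h.κr, mcj h.κ (show _ = (v * w * v⁻¹)⁻¹ by decide +kernel), map_inv] at this
    exact Commute.inv_right_iff.1 this
  · exfalso
    have e1 : h.κ v * ι a * (h.κ v)⁻¹ = ι a := by
      simp only [List.mem_cons, List.not_mem_nil, or_false] at ha
      refine mul_inv_eq_iff_eq_mul.2 ?_
      rcases ha with rfl | rfl | rfl | rfl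
      exacts [by simp, c1, c2, map_mul ι σ t ▸ c1.mul_right c2]
    have e2 : h.κ v * ι (r * a) * (h.κ v)⁻¹ = ι (r * a) := by
      have e3 : (ι (r * a))⁻¹ = ι (r * a) := by rw [← map_inv, inv_eq_of_mul_eq_one_right e]
      nth_rw 2 [← e3]
      rw [hc, eq_inv_iff_mul_eq_one]
      calc _ = h.κ v * (ι v * (h.κ v * h.κ v) * (ι v)⁻¹) * h.κ v := by group
        _ = 1 := by rw [vv]; simpa using vv
    rw [map_mul, ← conj_mul, h.vr h2, e1, mul_left_inj, mul_eq_left, ← map_one ι] at e2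
    exact absurd (h.inj e2) (by decide +kernel)

theorem comm5 (a b : A5) : Commute ((ι.comp j) a) ((h.κ.comp j) b) := by
  have k1 : ∀ x : G, Commute (ι w) x → Commute (ι (v * w * v⁻¹)) x → Commute ((ι.comp j) a) x :=
    fun x e1 e2 => mem_cent1.1 (gen5 (H := 𝒞[x].comap (ι.comp j)) (mem_cent1.2 e1)
      (mem_cent1.2 e2) a)
  refine (mem_cent1.1 (gen5 (H := 𝒞[(ι.comp j) a].comap (h.κ.comp j)) (mem_cent1.2 ?_)
    (mem_cent1.2 (k1 _ ?_ (h.comm0 h2)).symm) b)).symm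
  · change h.κ w * _ = _ * h.κ w
    rw [h.κw]
    exact mm ι (Prod.ext (by simp [j]) (by simp [z]))
  · exact h.κz ▸ mm h.κ (by decide +kernel)

/-- the product of the two copies of `A₅` -/
def μ : A5 × A5 →* G := (ι.comp j).noncommCoprod (h.κ.comp j) (h.comm5 h2)

theorem μ_def (a b : A5) : h.μ h2 (a, b) = ι (j a) * h.κ (j b) := rfl

end Cf

end Cfsg.Agent.H43.Alt8
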