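/-
Primitive groups with a suborbit of length 3 (Wong), part 1: the setting and the groups containing
`Sym(4)` with its two four-groups fused.
-/
import Cfsg.Agent.H18.DG2
import Cfsg.Agent.H76.L33c
import Cfsg.Agent.H22.GWSimple
import Cfsg.Agent.H14.Mathieu

set_option autoImplicit false

namespace Cfsg.Agent.H43.Wong

open Subgroup Function Cfsg Cfsg.Agent.H49 Equiv
open scoped MatrixGroups Pointwise

universe u

variable {G : Type u} [Group G] [Finite G]

structure St (M : Subgroup G) : Prop where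
  coatom : IsCoatom M
  core : ∀ N : Subgroup G, N.Normal → N ≤ M → N = ⊥
  solv : Group.IsSolvable M
  ns : ¬ Group.IsSolvable G
  tri : ∃ g ∉ M, 3 * Nat.card (M ⊓ H42.cj g M : Subgroup G) = Nat.card M

namespace St

variable {M : Subgroup G} (h : St M)
include h

omit [Finite G] in
theorem eq_or {K : Subgroup G} (hK : M ≤ K) : K = M ∨ K = ⊤ :=
  hK.eq_or_lt.imp Eq.symm (h.coatom.2 K)

omit [Finite G] in
theorem sup_eq {N : Subgroup G} (hN : N.Normal) (h0 : N ≠ ⊥) : M ⊔ N = ⊤ :=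
  (h.eq_or le_sup_left).resolve_left fun e => h0 (h.core N hN (e ▸ le_sup_right))

omit [Finite G] in
theorem eq_bot {N : Subgroup G} (hN : N.Normal) (hs : Group.IsSolvable N) : N = ⊥ := by
  by_contra h0
  refine h.ns ((Group.isSolvable_iff_subgroup_quotient N).2 ⟨hs, ?_⟩)
  have := h.solv
  refine Group.isSolvable_of_surjective (f := (QuotientGroup.mk' N).comp M.subtype) fun x => ?_
  obtain ⟨x, rfl⟩ := QuotientGroup.mk_surjective x
  have hx : x ∈ ((M ⊔ N : Subgroup G) : Set G) := h.sup_eq hN h0 ▸ mem_top x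
  rw [mul_normal] at hx
  obtain ⟨m, hm, n, hn, rfl⟩ := hx
  exact ⟨⟨m, hm⟩, (QuotientGroup.mk_mul_of_mem m hn).symm⟩

theorem core_eq : pPrimeCore 2 G = ⊥ :=
  h.eq_bot inferInstance (GW.solvable_of_odd H8.odd_card_pPrimeCore)

omit [Finite G] in
theorem norm_eq {X : Subgroup G} (h0 : X ≠ ⊥) (hX : X ≤ M) (hn : M ≤ 𝒩(X)) : 𝒩(X) = M :=
  (h.eq_or hn).resolve_right fun e => h0 (h.core X (normalizer_eq_top_iff.1 e) hX)

omit [Finite G] in
theorem cent_eq {z : G} (z1 : z ≠ 1) (hz : z ∈ M) (hc : M ≤ 𝒞[z]) : 𝒞[z] = M := by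
  refine le_antisymm ?_ hc
  rw [← h.norm_eq (X := zpowers z) (by rwa [Ne, zpowers_eq_bot]) (zpowers_le.2 hz)
    (hc.trans (cent_zpowers z ▸ cent_le_norm _)), ← cent_zpowers]
  exact cent_le_norm _

theorem exists_norm {D : Subgroup G} (hD : D ≤ M) {k : ℕ} (hk : Nat.card D = 2 ^ k)
    (h3 : 3 * 2 ^ k = Nat.card M) : ∃ n ∉ M, n ∈ 𝒩(D) := by
  have := Fact.mk Nat.prime_two
  obtain ⟨g, hg, e⟩ := h.tri
  have h1 : H42.SylIn 2 D M := ⟨hD, .of_card hk, by
    have := H42.card_mul_relIndex hD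
    rw [← h3, hk, mul_comm] at this
    rw [Nat.eq_of_mul_eq_mul_right (Nat.two_pow_pos k) this]
    decide⟩
  have h2 : Nat.card (M ⊓ H42.cj g M : Subgroup G) = 2 ^ k := by omega
  have key : ∀ R ≤ M, Nat.card R = 2 ^ k → ∃ m ∈ M, H42.cj m R = D := fun R hR e => by
    obtain ⟨m, hm, hm'⟩ := h1.exists_conj (.of_card e) hR
    exact ⟨m, hm, eq_of_le_of_card_ge (H42.cj_le_iff.2 hm') (by rw [H42.card_cj, e, hk])⟩
  obtain ⟨a, ha, ea⟩ := key _ inf_le_left h2
  obtain ⟨b, hb, eb⟩ := key (H42.cj g⁻¹ (M ⊓ H42.cj g M))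
    ((H42.cj_mono _ inf_le_right).trans (H42.cj_inv_cj g M).le) (by rw [H42.card_cj, h2])
  refine ⟨a * g * b⁻¹, by rwa [mul_mem_cancel_right (inv_mem hb), mul_mem_cancel_left ha], ?_⟩
  rw [← H42.cj_eq_iff_mem_normalizer]
  conv_lhs => rw [← eb, H42.cj_cj, H42.cj_cj]
  rw [← ea]
  congr 1
  group

end St

theorem not_eight_dvd (hD : GW.Dihed G) (hns : ¬ Group.IsSolvable G) {v : G} (hv : orderOf v = 2)
    (hc : Nat.card 𝒞[v] ≤ 4) : ¬ 8 ∣ Nat.card G := fun h8 => by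
  have ho : Odd (Nat.card (pPrimeCore 2 G)) := H8.odd_card_pPrimeCore
  refine H18.not_eight_dvd (hD.of_surjective (QuotientGroup.mk'_surjective (pPrimeCore 2 G))
    (by rwa [QuotientGroup.ker_mk'])) H22.pPrimeCore_quotient_pPrimeCore
    (fun c => hns ((Group.isSolvable_iff_subgroup_quotient _).2 ⟨GW.solvable_of_odd ho, c⟩))
    (v := (v : G ⧸ pPrimeCore 2 G)) (GW.inv_of_mul_self
      (by rw [← QuotientGroup.mk_mul, GW.mul_self_of_inv hv, QuotientGroup.mk_one]) fun c => ?_)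
    ((H4.card_centralizer_quotient_le _ v).trans hc) ?_
  · exact absurd (hv ▸ H23.odd_orderOf_of_mem ho ((QuotientGroup.eq_one_iff v).1 c)) (by decide)
  · rw [card_eq_card_quotient_mul_card_subgroup (pPrimeCore 2 G)] at h8
    exact (Nat.Coprime.pow_left 3 (Nat.coprime_two_left.2 ho)).dvd_of_dvd_mul_right h8

theorem solv_of_qd {S : Sylow 2 G} {k : ℕ} {x y : G} (q : H42.QD (S : Subgroup G) k x y)
    (hZ : H42.qz k x ∈ center G) {j : G} (j2 : orderOf j = 2) (jz : j ≠ H42.qz k x)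
    (hc : Nat.card 𝒞[j] ≤ 4) : Group.IsSolvable G := by
  by_contra hns
  have := Fact.mk Nat.prime_two
  have := H8.normal_zpowers_of_central hZ
  have h16 : Nat.card (S : Subgroup G) = 16 * 2 ^ k := by rw [q.card]; ring
  have hpos : 0 < 2 ^ k := by positivity
  set π := QuotientGroup.mk' (zpowers (H42.qz k x))
  have hπ : Surjective π := QuotientGroup.mk'_surjective _
  have hker : ∀ g, π g = 1 → g ∈ zpowers x := fun g hg =>
    zpowers_le.2 H42.QD.z_mem ((QuotientGroup.eq_one_iff g).1 hg)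
  have hD : GW.Dihed (G ⧸ zpowers (H42.qz k x)) := by
    obtain ⟨e⟩ := H42.dihedral_recog (a := π x) (b := π y) (orderOf_pos _).ne' rfl
      (by rw [← map_mul, q.yy, map_one]) (by
        have := q.conj_zpow' q.hy q.y_notMem 1
        simp only [zpow_one] at this
        rw [← map_inv, ← map_mul, ← map_mul, this, map_mul, map_inv,
          (QuotientGroup.eq_one_iff _).2 (mem_zpowers _) |> fun e : π _ = 1 => e, mul_one])
      (fun ⟨i, hi⟩ => q.y_notMem (by
        have := hker (y⁻¹ * x ^ i) (by rw [map_mul, map_inv, map_zpow, ← hi, inv_mul_cancel])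
        rwa [mul_mem_cancel_right (zpow_mem (mem_zpowers x) i), inv_mem_iff] at this))
    refine ⟨S.mapSurjective hπ, orderOf (π x), ?_, ⟨(MulEquiv.subgroupCongr ?_).trans e⟩⟩
    · by_contra c
      have h1 : π x = 1 := orderOf_eq_one_iff.1 (by have := orderOf_pos (π x); omega)
      have := orderOf_dvd_of_mem_zpowers ((QuotientGroup.eq_one_iff x).1 h1)
      rw [q.ord_z, q.ordx'] at this
      have := Nat.le_of_dvd two_pos this
      omega
    · rw [Sylow.coe_mapSurjective, ← MonoidHom.map_zpowers, ← MonoidHom.map_zpowers,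
        ← Subgroup.map_sup, ← inf_eq_right.2 q.A_le,
        ← H42.eq_inf_sup_zpowers q.relIndex le_rfl q.hy q.y_notMem]
  refine not_eight_dvd hD
    (fun c => hns ((Group.isSolvable_iff_subgroup_quotient _).2 ⟨GW.solvable_zpowers _, c⟩))
    (v := π j) (GW.inv_of_mul_self (by rw [← map_mul, GW.mul_self_of_inv j2, map_one]) fun c => ?_)
    ((H4.card_centralizer_quotient_le _ j).trans hc) ?_
  · exact ((GW.mem_zpowers_of_inv q.ord_z).1 ((QuotientGroup.eq_one_iff j).1 c)).elim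
      (GW.ne_one_of_inv j2) jz
  · have h1 := card_eq_card_quotient_mul_card_subgroup (zpowers (H42.qz k x))
    have h2 := card_subgroup_dvd_card (S : Subgroup G)
    rw [Nat.card_zpowers, q.ord_z] at h1
    rw [h16, h1] at h2
    exact Nat.dvd_of_mul_dvd_mul_right two_pos ((Dvd.intro _ rfl : 8 * 2 ∣ _).trans h2)

/-- central involution of the chosen `D₈` in `Sym(4)` -/
def t0 : Perm (Fin 4) := swap 0 1 * swap 2 3
/-- another involution of `O₂(Sym(4))` -/
def s0 : Perm (Fin 4) := swap 0 2 * swap 1 3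
/-- a transposition commuting with `t0` -/
def w0 : Perm (Fin 4) := swap 0 1

theorem eq_top_of_w0 {N : Subgroup (Perm (Fin 4))} (hN : N.Normal) (h : w0 ∈ N) : N = ⊤ := by
  rw [eq_top_iff, ← Perm.closure_isSwap, closure_le]
  rintro _ ⟨a, b, hab, rfl⟩
  obtain ⟨g, hg⟩ := isConj_iff.1 (Perm.isConj_swap (show (0 : Fin 4) ≠ 1 by decide) hab)
  exact hg ▸ hN.conj_mem _ h g

omit [Finite G] in
theorem range_le {ι : Perm (Fin 4) →* G} {n : G} (h : n * ι s0 * n⁻¹ = ι w0) {N : Subgroup G}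
    (hN : N.Normal) (ht : ι t0 ∈ N) : ι.range ≤ N := by
  have h1 : s0 ∈ N.comap ι := by
    rw [show s0 = swap 1 2 * t0 * (swap 1 2)⁻¹ by decide]
    exact (hN.comap ι).conj_mem _ ht _
  rintro _ ⟨x, rfl⟩
  exact (eq_top_of_w0 (hN.comap ι) (mem_comap.2 (h ▸ hN.conj_mem _ h1 n))).ge (mem_top x)

structure Cf (ι : Perm (Fin 4) →* G) (n : G) : Prop where
  inj : Injective ι
  cent : ∀ g, g * ι t0 = ι t0 * g → g * ι s0 = ι s0 * g → g ∈ ι.range
  ns : n * ι s0 * n⁻¹ = ι w0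
  nw : n * ι w0 * n⁻¹ = ι s0
  core : pPrimeCore 2 G = ⊥
  gen : ∀ N : Subgroup G, N.Normal → ι.range ≤ N → N = ⊤

namespace Cf

variable {ι : Perm (Fin 4) →* G} {n : G} (h : Cf ι n)
include h

omit [Finite G] in
theorem ord {x : Perm (Fin 4)} {k : ℕ} (e : orderOf x = k) : orderOf (ι x) = k := by
  rw [orderOf_injective ι h.inj, e]

omit [Finite G] in
theorem cent1 {g : G} (h1 : g * ι s0 = ι s0 * g) (h2 : g * ι w0 = ι w0 * g) : g = 1 ∨ g = ι t0 := by
  obtain ⟨x, rfl⟩ := h.cent g (by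
    rw [show t0 = s0 * w0 * (s0 * w0) by decide]
    simp only [map_mul]
    exact ((Commute.mul_right h1 h2).mul_right (Commute.mul_right h1 h2)).eq) h1
  rw [← map_mul, ← map_mul, h.inj.eq_iff] at h1 h2
  rw [← map_one ι, h.inj.eq_iff, h.inj.eq_iff]
  revert x
  decide

theorem card_le : Nat.card (𝒞[ι t0] ⊓ 𝒞[ι s0] : Subgroup G) ≤ 4 := by
  have h1 : 𝒞[ι t0] ⊓ 𝒞[ι s0] ≤ (𝒞[t0] ⊓ 𝒞[s0]).map ι := fun g hg => by
    have h1 := mem_cent1.1 hg.1
    have h2 := mem_cent1.1 hg.2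
    obtain ⟨x, rfl⟩ := h.cent g h1 h2
    rw [← map_mul, ← map_mul, h.inj.eq_iff] at h1 h2
    exact ⟨x, ⟨mem_cent1.2 h1, mem_cent1.2 h2⟩, rfl⟩
  refine (card_le_of_le h1).trans ?_
  rw [card_map_of_injective h.inj, Nat.card_congr (Equiv.subtypeEquivRight
    (p := (· ∈ 𝒞[t0] ⊓ 𝒞[s0])) (q := fun x => x * t0 = t0 * x ∧ x * s0 = s0 * x)
    fun x => and_congr mem_cent1 mem_cent1), Nat.card_eq_fintype_card]
  decide +kernel

theorem exists_two : ∃ R : Subgroup G, Nat.card R = 2 ^ 4 ∧ ι s0 ∈ R ∧ n ∈ R := by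
  have := Fact.mk Nat.prime_two
  have ss : ι s0 * ι s0 = 1 := by rw [← map_mul, show s0 * s0 = 1 by decide, map_one]
  have h1 : n * n = 1 ∨ n * n = ι t0 := h.cent1
    (by rw [← mul_inv_eq_iff_eq_mul]
        calc _ = n * (n * ι s0 * n⁻¹) * n⁻¹ := by group
          _ = _ := by rw [h.ns, h.nw])
    (by rw [← mul_inv_eq_iff_eq_mul]
        calc _ = n * (n * ι w0 * n⁻¹) * n⁻¹ := by group
          _ = _ := by rw [h.nw, h.ns])
  obtain ⟨ρ, h2, h3, h4⟩ : ∃ ρ, n * ι s0 * (n * ι s0) = ι ρ ∧ ρ * ρ = t0 ∧ s0 * ρ ≠ ρ * s0 := by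
    have e : n * ι s0 * (n * ι s0) = ι w0 * (n * n) * ι s0 := by rw [← h.ns]; group
    rcases h1 with e1 | e1 <;> rw [e1] at e
    · exact ⟨w0 * s0, by rw [e, mul_one, map_mul], by decide, by decide⟩
    · exact ⟨w0 * t0 * s0, by rw [e, map_mul, map_mul], by decide, by decide⟩
  have h5 : (n * ι s0) ^ 4 = ι t0 := by
    rw [← h3, map_mul, ← h2]
    simp only [pow_succ, pow_zero, one_mul, mul_assoc]
  have h6 : orderOf (n * ι s0) = 2 ^ 3 := orderOf_eq_prime_pow
    (by rw [show 2 ^ 2 = 4 from rfl, h5, ← map_one ι, h.inj.eq_iff]; decide)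
    (by rw [show 2 ^ (2 + 1) = 4 * 2 from rfl, pow_mul, h5, ← map_pow, ← map_one ι, h.inj.eq_iff]
        decide)
  have h7 : ι s0 ∉ zpowers (n * ι s0) := fun c => h4 (h.inj (by
    rw [map_mul, map_mul]
    exact H42.comm_of_mem_zpowers c (h2 ▸ mul_mem (mem_zpowers _) (mem_zpowers _))))
  refine ⟨zpowers (n * ι s0) ⊔ zpowers (ι s0), ?_, mem_sup_right (mem_zpowers _), ?_⟩
  · rw [H42.card_sup_zpowers (H42.mem_normalizer_of_conj_mem ?_) (ss ▸ one_mem _) h7,
      Nat.card_zpowers, h6]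
    · rfl
    rintro _ ⟨i, rfl⟩
    rw [← conj_zpow]
    refine zpow_mem ?_ i
    rw [show ι s0 * (n * ι s0) * (ι s0)⁻¹ = (n * ι s0)⁻¹ * (n * (ι s0 * ι s0) * n) by group, ss,
      mul_one]
    refine mul_mem (inv_mem (mem_zpowers _)) ?_
    rcases h1 with e | e <;> rw [e]
    exacts [one_mem _, h5 ▸ pow_mem (mem_zpowers _) 4]
  · have := mul_mem (mem_sup_left (mem_zpowers (n * ι s0)))
      (inv_mem (mem_sup_right (S := zpowers (n * ι s0)) (mem_zpowers (ι s0))))
    rwa [mul_inv_cancel_right] at this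

theorem t_mem {S : Sylow 2 G} (hs : ι s0 ∈ (S : Subgroup G)) (hn : n ∈ (S : Subgroup G))
    {N : Subgroup G} (hN : N.Normal) (h0 : N ≠ ⊥) : ι t0 ∈ N ∧ (S : Subgroup G) ≤ 𝒞[ι t0] := by
  have := Fact.mk Nat.prime_two
  obtain ⟨u, hu, u2⟩ : ∃ u ∈ N, orderOf u = 2 := by
    obtain ⟨u, hu⟩ := exists_prime_orderOf_dvd_card' (G := N) 2 (by
      by_contra c
      exact h0 (H8.core_eq_bot_iff.1 h.core N hN (Nat.odd_iff.2 (by omega))))
    exact ⟨u, u.2, by rwa [orderOf_coe]⟩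
  obtain ⟨g, hg⟩ := H42.exists_conj_sylow S (R := zpowers u)
    (.of_card (n := 1) (by rw [Nat.card_zpowers, u2, pow_one]))
  obtain ⟨z, hz, z2, hc⟩ := H46.exists_involution_centralized (U := (S : Subgroup G) ⊓ N) (T := S)
    S.isPGroup'.to_inf_left (fun e => GW.ne_one_of_inv (GW.orderOf_conj_inv u2 g)
      (mem_bot.1 (e ▸ mem_inf.2 ⟨hg u (mem_zpowers u), hN.conj_mem _ hu g⟩))) S.isPGroup'
    fun g hg => H42.mem_normalizer_of_conj_mem fun x hx =>
      mem_inf.2 ⟨mul_mem (mul_mem hg hx.1) (inv_mem hg), hN.conj_mem _ hx.2 g⟩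
  obtain rfl := (h.cent1 (hc _ hs).symm
    (hc _ (h.ns ▸ mul_mem (mul_mem hn hs) (inv_mem hn))).symm).resolve_left (GW.ne_one_of_inv z2)
  exact ⟨hz.2, fun a ha => mem_cent1.2 (hc a ha)⟩

theorem main : IsSimpleGroup G ∧ 16 ∣ Nat.card G ∧
    (GW.Dihed G ∨ Nonempty (G ≃* PSL(3, ZMod 3)) ∨ Spor.IsoM11 G) := by
  have := Fact.mk Nat.prime_two
  obtain ⟨R, hR, hs, hn⟩ := h.exists_two
  obtain ⟨S, hS⟩ := (IsPGroup.of_card hR).exists_le_sylow
  have t2 : orderOf (ι t0) = 2 := h.ord (orderOf_eq_prime (by decide) (by decide))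
  have s2 : orderOf (ι s0) = 2 := h.ord (orderOf_eq_prime (by decide) (by decide))
  have st : ι s0 ≠ ι t0 := h.inj.ne (by decide)
  have : Nontrivial G := nontrivial_of_ne _ _ st
  have hG : IsSimpleGroup G := ⟨fun N hN => or_iff_not_imp_left.2 fun h0 =>
    h.gen N hN (range_le h.ns hN (h.t_mem (hS hs) (hS hn) hN h0).1)⟩
  refine ⟨hG, hR.symm.dvd.trans (card_subgroup_dvd_card R), ?_⟩
  obtain ⟨-, hC⟩ := h.t_mem (hS hs) (hS hn) (N := ⊤) inferInstance top_ne_bot
  have hw : ι w0 ∈ (S : Subgroup G) := h.ns ▸ mul_mem (mul_mem (hS hn) (hS hs)) (inv_mem (hS hn))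
  have ht : ι t0 ∈ (S : Subgroup G) := by
    rw [show t0 = s0 * w0 * (s0 * w0) by decide]
    simp only [map_mul]
    exact mul_mem (mul_mem (hS hs) hw) (mul_mem (hS hs) hw)
  have key : ∀ (X : Subgroup G) (hX : X ≤ 𝒞[ι t0]) (hs : ι s0 ∈ X),
      Nat.card (centralizer ({⟨ι s0, hs⟩} : Set X)) ≤ 4 := fun X hX hs => by
    refine le_trans ?_ h.card_le
    rw [← card_map_of_injective X.subtype_injective]
    refine card_le_of_le ?_
    rintro _ ⟨x, hx, rfl⟩
    exact ⟨hX x.2, mem_cent1.2 (congrArg Subtype.val (mem_cent1.1 hx))⟩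
  have nq : ¬ (IsCyclic (S : Subgroup G) ∨
      ∃ n : ℕ, Nonempty ((S : Subgroup G) ≃* QuaternionGroup n)) := fun c => by
    obtain ⟨i, hi⟩ := H69.mem_zpowers_of_cyclic_or_quaternion S.isPGroup' c (x := ⟨_, ht⟩)
      (y := ⟨_, hS hs⟩) (fun e => GW.ne_one_of_inv t2 (congrArg Subtype.val e))
      (Subtype.ext ((sq _).trans (GW.mul_self_of_inv t2)))
      (Subtype.ext ((sq _).trans (GW.mul_self_of_inv s2)))
    exact ((GW.mem_zpowers_of_inv t2).1 ⟨i, congrArg Subtype.val hi⟩).elim (GW.ne_one_of_inv s2) st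
  rcases H18.two_group_cases S.isPGroup' _ (key _ hC (hS hs)) with c | ⟨m, hm, e⟩ | ⟨m, e⟩ | c
  · exact absurd (Or.inl c) nq
  · exact Or.inl ⟨S, m, hm, e⟩
  · exact absurd (Or.inr ⟨_, e⟩) nq
  obtain ⟨k, x, y, q⟩ := H42.QD.of_isQuasiDihedral c
  have hz : H42.qz k x = ι t0 :=
    (h.cent1 (q.z_comm (hS hs)).symm (q.z_comm hw).symm).resolve_left q.z_ne_one
  rw [← hz] at hC key st
  obtain ⟨e⟩ := H76.exists_equiv_of_QD q (solv_of_qd (S := S.subtype hC) (H43.QD.sub q hC)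
    (mem_center_iff.2 fun g => Subtype.ext (mem_cent1.1 g.2)) (j := ⟨_, hC (hS hs)⟩)
    (by rw [← orderOf_coe, s2]) (fun e => st (congrArg Subtype.val e)) (key _ le_rfl _))
  exact Or.inr (H76.iso_of_equiv q.ord_z e)

end Cf

omit [Finite G] in
theorem no_m11 {M V : Subgroup G} (hM : IsCoatom M) (hc : Nat.card M = 24) (hV : IsPGroup 2 V)
    (h0 : V ≠ ⊥) (hn : M ≤ 𝒩(V)) (e : G ≃* Spor.M11) : False := by
  classical
  have := Fact.mk Nat.prime_two
  let ρ : G →* Perm GolayPt := Spor.M11.subtype.comp e.toMonoidHom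
  let _ := MulAction.compHom GolayPt ρ
  let Ω := Spor.squareDodecad.erase (some 0)
  have h12 : Spor.squareDodecad.card = 12 := by rw [H14.squareDodecad_eq]; decide +kernel
  have h11 : Ω.card = 11 := by rw [Finset.card_erase_of_mem H14.zero_mem_squareDodecad, h12]
  have hΩ : ∀ (g : G) {a}, a ∈ Ω → g • a ∈ Ω := fun g a ha => Finset.mem_erase.2
    ⟨fun c => (Finset.mem_erase.1 ha).1 ((ρ g).injective (c.trans (e g).2.2.symm)),
      (H14.m12_apply_mem_iff (e g).2.1).2 (Finset.mem_erase.1 ha).2⟩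
  let F := Ω.filter fun a => ∀ v ∈ V, v • a = a
  have hF3 : F.card ≤ 3 := by
    by_contra c
    obtain ⟨T, hT, h5⟩ := Finset.exists_subset_card_eq (show 5 ≤ (insert (some 0) F).card by
      rw [Finset.card_insert_of_notMem fun c => by simp [F, Ω] at c]; omega)
    refine h0 ((eq_bot_iff_forall V).2 fun v hv => e.injective (Subtype.ext ?_))
    rw [map_one]
    refine H14.m12_eq_one_of_fix (e v).2.1 (fun i => ((T.equivFinOfCardEq h5).symm i).1)
      (Subtype.val_injective.comp (Equiv.injective _)) (fun i => ?_) fun i => ?_ <;>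
      rcases Finset.mem_insert.1 (hT ((T.equivFinOfCardEq h5).symm i).2) with c | c
    · exact c ▸ H14.zero_mem_squareDodecad
    · exact Finset.mem_of_mem_erase (Finset.mem_filter.1 c).1
    · exact c ▸ (e v).2.2
    · exact (Finset.mem_filter.1 c).2 v hv
  obtain ⟨a, ha⟩ : F.Nonempty := by
    let X : SubMulAction G GolayPt := ⟨Ω, fun g _ ha => hΩ g ha⟩
    obtain ⟨a, ha⟩ := hV.nonempty_fixed_point_of_prime_not_dvd_card X (by
      rw [show Nat.card X = 11 from (Nat.card_eq_finsetCard Ω).trans h11]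
      decide)
    exact ⟨a, Finset.mem_filter.2 ⟨a.2, fun v hv => congrArg Subtype.val (ha ⟨v, hv⟩)⟩⟩
  have h1 : M ≤ MulAction.stabilizer G F := fun m hm => by
    refine Finset.eq_of_subset_of_card_le (fun c hc => ?_) (Finset.card_smul_finset m F).ge
    obtain ⟨b, hb, rfl⟩ := Finset.mem_smul_finset.1 hc
    refine Finset.mem_filter.2 ⟨hΩ m (Finset.mem_filter.1 hb).1, fun v hv => ?_⟩
    have := (Finset.mem_filter.1 hb).2 _ (H42.conj_mem_of_mem_normalizer (inv_mem (hn hm)) hv)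
    rw [inv_inv, mul_smul, mul_smul, inv_smul_eq_iff] at this
    exact this
  rcases h1.eq_or_lt with h2 | h2
  · have h3 := M.card_mul_index
    rw [hc, Nat.card_congr e.toEquiv, H14.card_M11, h2, MulAction.index_stabilizer] at h3
    have h5 : ∀ k ≤ 3, Nat.choose 11 k ≤ 165 := by decide
    have h4 : (MulAction.orbit G F).ncard ≤ (Ω.powersetCard F.card).card := by
      rw [← Set.ncard_coe_finset]
      refine Set.ncard_le_ncard ?_
      rintro _ ⟨g, rfl⟩
      refine Finset.mem_coe.2 (Finset.mem_powersetCard.2 ⟨fun c hc => ?_,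
        Finset.card_smul_finset g F⟩)
      obtain ⟨b, hb, rfl⟩ := Finset.mem_smul_finset.1 hc
      exact hΩ g (Finset.mem_filter.1 hb).1
    rw [Finset.card_powersetCard, h11] at h4
    have := h5 _ hF3
    omega
  · have h3 : Ω ⊆ F := fun b hb => by
      have ha' := Finset.mem_erase.1 (Finset.mem_filter.1 ha).1
      have hb' := Finset.mem_erase.1 hb
      obtain ⟨g, hg, hg'⟩ := H14.m12_exists_apply_eq (t := 2) (by decide) ![some 0, a] ![some 0, b]
        (H14.inj2 ha'.1) (H14.inj2 hb'.1)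
        (Fin.forall_fin_two.2 ⟨H14.zero_mem_squareDodecad, ha'.2⟩)
        (Fin.forall_fin_two.2 ⟨H14.zero_mem_squareDodecad, hb'.2⟩)
      obtain ⟨x, hx⟩ := e.surjective ⟨g, hg, hg' 0⟩
      have h4 : x • F = F := (hM.2 _ h2).ge (mem_top x)
      have h5 : x • a = b := (congrArg (fun y : Spor.M11 => y.1 a) hx).trans (hg' 1)
      exact h4 ▸ h5 ▸ Finset.smul_mem_smul_finset ha
    have := Finset.card_le_card h3
    omega

end Cfsg.Agent.H43.Wong
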