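/-
Primitive groups with a suborbit of length 3 (Wong), part 2: stabilisers `D₁₂` and `Sym(4)`.
-/
import Cfsg.Agent.H43.Wong1
import Cfsg.Agent.H28.Pgl2Sub
import Cfsg.Agent.H9.Transport
import Cfsg.Agent.S0253
import Cfsg.Agent.S2119
import Cfsg.Agent.S5892

set_option autoImplicit false

namespace Cfsg.Agent.H43.Wong

open Subgroup Function Cfsg Cfsg.Agent.H49 Equiv
open scoped MatrixGroups

universe u

variable {G : Type u} [Group G] [Finite G] {M : Subgroup G}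

omit [Finite G] in
theorem exists_iota {X : Type*} [Group X] (e : M ≃* X) :
    ∃ ι : X →* G, Injective ι ∧ ι.range = M :=
  ⟨M.subtype.comp e.symm.toMonoidHom, M.subtype_injective.comp e.symm.injective, by
    rw [MonoidHom.range_comp, MonoidHom.range_eq_top.2 e.symm.surjective, ← MonoidHom.range_eq_map,
      range_subtype]⟩

theorem gw_model (hD : GW.Dihed G) (hO : pPrimeCore 2 G = ⊥) (hns : ¬ Group.IsSolvable G) :
    (∃ (F : Type) (_ : Field F) (_ : Fintype F) (φ : G →* MulAut PSL(2, F)) (τ m p : ℕ),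
      τ + m = Fintype.card F ∧ Injective φ ∧
      H23.PG (MulAut.conj : PSL(2, F) →* _).range (H23.Pgl.iota F).range H23.Pgl.torA τ m p ∧
      (MulAut.conj : PSL(2, F) →* _).range ≤ φ.range ∧
      ∀ v : G, v * v = 1 → φ v ∈ (H23.Pgl.iota F).range) ∨
    ∃ L : Subgroup G, L.Normal ∧ Odd L.index ∧ Nonempty (L ≃* alternatingGroup (Fin 7)) := by
  obtain ⟨L, hL, -, -, -, hC, ⟨F, _, _, h1, h2, ⟨e⟩⟩ | ⟨he, ho⟩⟩ := H22.gw_nonsolv hD hO hns
  · obtain ⟨φ, hφ, -, hr⟩ := H22.exists_aut_embedding L hC e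
    obtain ⟨τ, m, p, hq, h⟩ := H23.Pgl.exists_pg F (by rwa [Nat.card_eq_fintype_card])
      (by rwa [Nat.card_eq_fintype_card])
    have hle : (MulAut.conj : PSL(2, F) →* _).range ≤ φ.range := hr ▸ map_le_range φ L
    refine Or.inl ⟨F, _, _, φ, τ, m, p, hq.trans Nat.card_eq_fintype_card, hφ, h, hle,
      fun v hv => ?_⟩
    by_contra hn
    obtain ⟨a, ha, b, hb, a2, b2, a1, b1, ab, c, ca, cb⟩ :=
      h.field_two _ hn (by rw [← map_mul, hv, map_one])
    obtain ⟨a, rfl⟩ := hle ha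
    obtain ⟨b, rfl⟩ := hle hb
    rw [← map_mul, ← map_one φ, hφ.eq_iff] at a2 b2
    rw [← map_mul, ← map_mul, hφ.eq_iff] at c ca cb
    have ha2 := GW.inv_of_mul_self a2 fun e => a1 (by rw [e, map_one])
    have hb2 := GW.inv_of_mul_self b2 fun e => b1 (by rw [e, map_one])
    have := map_le_iff_le_comap.2 (GW.four_le (X := (H23.Pgl.iota F).range.comap φ)
      (h.L_le ha) (h.L_le hb))
    exact hn (this ⟨v, hD.mem_four ha2 ⟨hb2, fun e => ab (by rw [e]), c⟩ hv ca cb, rfl⟩)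
  · exact Or.inr ⟨L, inferInstance, ho, he⟩

omit [Finite G] in
theorem psl_zmod {F : Type*} [Field F] [Fintype F] {p : ℕ} (hp : p.Prime) (hF : Fintype.card F = p)
    (e : G ≃* PSL(2, F)) : Nonempty (G ≃* PSL(2, ZMod p)) :=
  have := Fact.mk hp
  ⟨e.trans (H9.pslMapEquiv (FiniteField.ringEquivOfCardEq (hF.trans (ZMod.card p).symm)))⟩

open DihedralGroup in
theorem St.d12 (h : St M) (e : M ≃* DihedralGroup 6) : Nonempty (G ≃* Perm (Fin 5)) ∨
    Nonempty (G ≃* GL (Fin 2) (ZMod 7) ⧸ center (GL (Fin 2) (ZMod 7))) ∨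
    Nonempty (G ≃* PSL(2, ZMod 11)) ∨ Nonempty (G ≃* PSL(2, ZMod 13)) := by
  obtain ⟨ι, hι, rfl⟩ := exists_iota e
  have hc : Nat.card ι.range = 12 := by rw [Nat.card_congr e.toEquiv, nat_card]
  have z2 : orderOf (ι (r 3)) = 2 := by
    rw [orderOf_injective ι hι]
    exact orderOf_eq_prime (by decide) (by decide)
  have zz := GW.mul_self_of_inv z2
  have z1 := GW.ne_one_of_inv z2
  have hC : 𝒞[ι (r 3)] = ι.range := h.cent_eq z1 ⟨_, rfl⟩ (by
    rintro _ ⟨x, rfl⟩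
    rw [mem_cent1, ← map_mul, ← map_mul]
    congr 1
    revert x
    decide)
  have hA : ∀ i : ZMod 6, ι (r i) ∈ zpowers (ι (r 1)) := fun i =>
    mem_zpowers_iff.2 ⟨i.val, by rw [← map_zpow, zpow_natCast, r_one_pow, ZMod.natCast_zmod_val]⟩
  have uniq : ∀ v ∈ zpowers (ι (r 1)), orderOf v = 2 → v = ι (r 3) := fun v hv v2 =>
    H43.eq_of_inv_of_mem_zpowers hv (hA 3) (GW.mul_self_of_inv v2) zz (GW.ne_one_of_inv v2) z1
  have hD : GW.Dihed G := H18.DH.dihed (H := ι.range) ⟨zpowers_le.2 ⟨_, rfl⟩, by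
      have := H42.card_mul_relIndex (zpowers_le.2 ⟨_, rfl⟩ : zpowers (ι (r 1)) ≤ ι.range)
      rw [hc, Nat.card_zpowers, orderOf_injective ι hι, orderOf_r_one] at this
      omega, by
      rintro _ ⟨i | i, rfl⟩ hx
      · exact absurd (hA i) hx
      · rw [← map_mul, sr_mul_self, map_one], fun j hj j2 => uniq j hj j2 ▸ hC⟩
    (hA 3) z2 uniq h.core_eq h.ns
  have gen : ∀ K : Subgroup G, K.Normal → (∀ v, v * v = 1 → v ∈ K) → K = ⊤ := fun K hK hv => by
    refine (h.eq_or ?_).resolve_left fun c => z1 (mem_bot.1 (h.core K hK c.le ▸ hv _ zz))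
    have h1 : ∀ i, ι (sr i) ∈ K := fun i => hv _ (by rw [← map_mul, sr_mul_self, map_one])
    rintro _ ⟨i | i, rfl⟩
    · simpa [← map_mul] using mul_mem (h1 0) (h1 i)
    · exact h1 i
  rcases gw_model hD h.core_eq h.ns with ⟨F, _, _, φ, τ, m, p, hq, hφ, hp, hle, hP⟩ |
    ⟨L, hL, ho, ⟨f⟩⟩
  · have hB : φ.range ≤ (H23.Pgl.iota F).range := by
      rintro _ ⟨g, rfl⟩
      exact (gen _ (hp.P_normal.comap φ) hP).ge (mem_top g)
    have v2 : φ (ι (r 3)) * φ (ι (r 3)) = 1 := by rw [← map_mul, zz, map_one]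
    have v1 : φ (ι (r 3)) ≠ 1 := fun c => z1 (hφ (c.trans (map_one φ).symm))
    have h1 : ι.range.map φ ⊓ (MulAut.conj : PSL(2, F) →* _).range =
        𝒞[φ (ι (r 3))] ⊓ (MulAut.conj : PSL(2, F) →* _).range := by
      ext y
      rw [mem_inf, mem_inf]
      refine and_congr_left fun hy => ?_
      obtain ⟨y, rfl⟩ := hle hy
      rw [mem_map_iff_mem hφ, ← hC, mem_cent1, mem_cent1, ← map_mul, ← map_mul, hφ.eq_iff]
    have h2 := hp.card_centralizer_L (hP _ zz) v2 v1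
    have h3 := hp.even_τ
    have h4 := hp.near
    rw [← h1] at h2
    by_cases hc' : ι.range.map φ ≤ (MulAut.conj : PSL(2, F) →* _).range
    · rw [inf_eq_left.2 hc', card_map_of_injective hφ, hc,
        hp.card_T_of_mem (hP _ zz) v2 v1 (hc' ⟨_, ⟨_, rfl⟩, rfl⟩)] at h2
      have h5 : φ.range ≤ (MulAut.conj : PSL(2, F) →* _).range := by
        rintro _ ⟨g, rfl⟩
        refine ((h.eq_or (map_le_iff_le_comap.1 hc')).resolve_left fun c => ?_).ge (mem_top g)
        exact z1 (mem_bot.1 (h.core _ (hp.L_normal.comap φ) c.le ▸ hc' ⟨_, ⟨_, rfl⟩, rfl⟩))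
      have e := ((MonoidHom.ofInjective hφ).trans (MulEquiv.subgroupCongr
        ((le_antisymm h5 hle).trans H23.Pgl.map_pslIn.symm))).trans ((H28.pslEquiv F).trans
          (equivMapOfInjective _ _ H23.Pgl.iota_inj)).symm
      rcases h4 with h4 | h4
      · exact Or.inr (Or.inr (Or.inr (psl_zmod (by decide) (by omega) e)))
      · exact Or.inr (Or.inr (Or.inl (psl_zmod (by decide) (by omega) e)))
    obtain ⟨x, hx, hx'⟩ := SetLike.not_le_iff_exists.1 hc'
    have hx1 := map_le_range φ _ hx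
    have h5 := H42.card_eq_two_mul_card_inf hp.relIndex ((map_le_range φ _).trans hB) hx hx'
    rw [card_map_of_injective hφ, hc, h2] at h5
    have h6 : m = 3 := by
      by_cases c : φ (ι (r 3)) ∈ (MulAut.conj : PSL(2, F) →* _).range
      · rw [hp.card_T_of_mem (hP _ zz) v2 v1 c] at h5
        obtain ⟨k, hk⟩ := h3
        omega
      · rw [hp.card_T_of_not_mem (hP _ zz) v2 v1 c] at h5
        omega
    have e := ((MonoidHom.ofInjective hφ).trans (MulEquiv.subgroupCongr (le_antisymm hB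
      (H42.le_of_inf_le_of_relIndex_two hp.relIndex le_rfl (hB hx1) hx' hx1
        (inf_le_right.trans hle))))).trans (MonoidHom.ofInjective H23.Pgl.iota_inj).symm
    rcases h4 with h4 | h4
    · have h7 : Fintype.card F = 5 := by omega
      obtain ⟨e'⟩ := S0253.result h7
      let θ := (MulAut.congr e').trans (MulEquiv.ofBijective _
        (S2119.result 5 (by decide) (by decide))).symm
      refine Or.inl ⟨H9.mulEquivOfInjectiveOfCard (θ.toMonoidHom.comp φ) (θ.injective.comp hφ) ?_⟩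
      rw [Nat.card_congr e.toEquiv, H28.card_pgl_two, Nat.card_eq_fintype_card, h7, Nat.card_perm,
        Nat.card_fin]
      rfl
    · have := Fact.mk (show Nat.Prime 7 by decide)
      exact Or.inr (Or.inl ⟨e.trans (H9.centerQuotEquiv (H9.glMapEquiv
        (FiniteField.ringEquivOfCardEq (K := F) (by rw [ZMod.card]; omega))))⟩)
  exfalso
  let j' : L := ⟨_, H18.mem_of_odd_index ho zz⟩
  obtain ⟨g, hg⟩ := H23.A7.conj_inv H23.A7.t2 H23.A7.t1 (v := f j')
    (by rw [← map_mul, show j' * j' = 1 from Subtype.ext zz, map_one])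
    fun c => z1 (congrArg Subtype.val (f.injective (c.trans (map_one f).symm)))
  let ψ : alternatingGroup (Fin 7) →* G :=
    L.subtype.comp (f.symm.toMonoidHom.comp (MulAut.conj g).toMonoidHom)
  have hψ : Injective ψ := L.subtype_injective.comp (f.symm.injective.comp (MulAut.conj g).injective)
  have ht : ψ H23.A7.t = ι (r 3) := congrArg Subtype.val (show f.symm (g * _ * g⁻¹) = j' by
    rw [hg, f.symm_apply_apply])
  obtain ⟨x, hx⟩ : ψ (H23.A7.s * H23.A7.r) ∈ ι.range := by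
    rw [← hC, mem_cent1, ← ht, ← map_mul, ← map_mul ψ _ (_ * _)]
    exact congrArg ψ (Subtype.ext (by decide))
  have h1 : ψ ((H23.A7.s * H23.A7.r) ^ 6) = ψ 1 := by
    rw [map_pow, ← hx, ← map_pow, map_one, ← map_one ι]
    exact congrArg ι ((by decide : ∀ x : DihedralGroup 6, x ^ 6 = 1) x)
  exact absurd (congrArg Subtype.val (hψ h1)) (by decide)

/-- `O₂(Sym(4))` -/
def V0 : Subgroup (Perm (Fin 4)) := 𝒞[t0] ⊓ 𝒞[s0]

theorem mem_V0 {x : Perm (Fin 4)} : x ∈ V0 ↔ x = 1 ∨ x = t0 ∨ x = s0 ∨ x = t0 * s0 := by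
  rw [V0, mem_inf, mem_cent1, mem_cent1]
  revert x
  decide

theorem mem_norm_V0 {ι : Perm (Fin 4) →* G} {g : G} (ht : g * ι t0 * g⁻¹ ∈ V0.map ι)
    (hs : g * ι s0 * g⁻¹ ∈ V0.map ι) : g ∈ 𝒩(V0.map ι) := by
  refine H42.mem_normalizer_of_conj_mem ?_
  rintro _ ⟨x, hx, rfl⟩
  rcases mem_V0.1 hx with rfl | rfl | rfl | rfl
  · simp
  · exact ht
  · exact hs
  · rw [map_mul, ← conj_mul]
    exact mul_mem ht hs

theorem range_le_norm (ι : Perm (Fin 4) →* G) : ι.range ≤ 𝒩(V0.map ι) := by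
  rintro _ ⟨x, rfl⟩
  refine mem_norm_V0 ?_ ?_ <;> rw [← map_inv, ← map_mul, ← map_mul] <;>
    refine mem_map_of_mem ι (mem_V0.2 ?_) <;> revert x <;> decide

omit [Finite G] in
theorem V0_ne_bot {ι : Perm (Fin 4) →* G} (hι : Injective ι) : V0.map ι ≠ ⊥ := fun c =>
  hι.ne (show t0 ≠ 1 by decide) ((mem_bot.1 (c ▸ mem_map_of_mem ι (mem_V0.2 (by decide)))).trans
    (map_one ι).symm)

theorem St.mem_of_comm (h : St M) {ι : Perm (Fin 4) →* G} (hι : Injective ι) (h1 : ι.range ≤ M)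
    (h2 : M ≤ 𝒩(V0.map ι)) {g : G} (ht : g * ι t0 = ι t0 * g) (hs : g * ι s0 = ι s0 * g) :
    g ∈ M := by
  rw [← h.norm_eq (V0_ne_bot hι) ((map_le_range ι _).trans h1) h2]
  refine mem_norm_V0 ?_ ?_
  · rw [ht, mul_inv_cancel_right]; exact mem_map_of_mem ι (mem_V0.2 (by decide))
  · rw [hs, mul_inv_cancel_right]; exact mem_map_of_mem ι (mem_V0.2 (by decide))

theorem card_D0 : Nat.card 𝒞[t0] = 2 ^ 3 := by
  rw [Nat.card_congr (Equiv.subtypeEquivRight (p := (· ∈ 𝒞[t0]))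
    (q := fun x => x * t0 = t0 * x) fun x => mem_cent1), Nat.card_eq_fintype_card]
  decide +kernel

theorem s4_cases : ∀ a : Perm (Fin 4), a * t0 = t0 * a → a * a = 1 → ∀ b, b * t0 = t0 * b →
    b * b = 1 → a * b * (a * b) ≠ 1 → ((a = s0 ∨ a = t0 * s0) ∧ a * b * (a * b) = t0) ∨
      ∃ d, d * a * d⁻¹ = w0 ∧ d * b * d⁻¹ = s0 := by
  decide +kernel

theorem prime_of_s4 {F : Type} [Field F] [Fintype F] (ho : Odd (Fintype.card F))
    (h16 : Fintype.card F % 16 = 1 ∨ Fintype.card F % 16 = 15) (h3 : 3 < Fintype.card F)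
    {M : Subgroup PSL(2, F)} (hM : IsCoatom M) (hc : Nat.card M = 24) : (Fintype.card F).Prime := by
  obtain ⟨p, hp⟩ := CharP.exists F
  have := Fact.mk (CharP.char_is_prime F p)
  have h15 : 15 ≤ Fintype.card F := by omega
  rcases S5892.result p ho (by omega) M hM with h | ⟨-, k, hk, ⟨e⟩⟩ | ⟨-, -, k, hk, ⟨e⟩⟩ |
    ⟨K, _, _, hK, ⟨e⟩⟩ | ⟨K, _, _, r, hr, -, hK, ⟨e⟩⟩ | ⟨-, -, ⟨e⟩⟩ | ⟨-, -, -, ⟨e⟩⟩ | ⟨h, -⟩
  · have := Nat.mul_le_mul h15 (show 14 ≤ Fintype.card F - 1 by omega)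
    omega
  · rw [Nat.card_congr e.toEquiv, DihedralGroup.nat_card] at hc
    omega
  · rw [Nat.card_congr e.toEquiv, DihedralGroup.nat_card] at hc
    omega
  · rw [Nat.card_congr e.toEquiv, H28.card_pgl_two, Nat.card_eq_fintype_card, ← hK] at hc
    have := Nat.mul_le_mul (Fintype.one_lt_card (α := K)) (show 14 ≤ Fintype.card F - 1 by omega)
    omega
  · have h1 := H9.gcd_mul_card_psl_two (F := K)
    have h2 : Odd (Fintype.card K) := (Nat.odd_pow_iff hr.ne_zero).1 (hK ▸ ho)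
    rw [← Nat.card_congr e.toEquiv, hc, Nat.gcd_eq_left (Nat.Odd.sub_odd h2 odd_one).two_dvd] at h1
    have h4 := Nat.le_of_dvd (by decide) (Dvd.intro _ h1.symm)
    generalize Fintype.card K = n at *
    interval_cases n <;> omega
  · rw [Nat.card_congr e.toEquiv, nat_card_alternatingGroup, Nat.card_fin] at hc
    exact absurd hc (by decide)
  · rw [Nat.card_congr e.toEquiv, nat_card_alternatingGroup, Nat.card_fin] at hc
    exact absurd hc (by decide)
  · exact h ▸ Fact.out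

theorem St.s4 (h : St M) (e : M ≃* Perm (Fin 4)) :
    (∃ p : ℕ, p.Prime ∧ (p % 16 = 1 ∨ p % 16 = 15) ∧ Nonempty (G ≃* PSL(2, ZMod p))) ∨
      Nonempty (G ≃* PSL(3, ZMod 3)) := by
  obtain ⟨ι, hι, rfl⟩ := exists_iota e
  have hc : Nat.card ι.range = 24 := by rw [Nat.card_congr e.toEquiv, Nat.card_perm, Nat.card_fin]; rfl
  have hN := h.norm_eq (V0_ne_bot hι) (map_le_range ι _) (range_le_norm ι)
  obtain ⟨n, hn, hn'⟩ := h.exists_norm (map_le_range ι 𝒞[t0])
    ((card_map_of_injective hι).trans card_D0) hc.symm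
  obtain ⟨a, ha, ea⟩ := H42.conj_mem_of_mem_normalizer hn'
    (mem_map_of_mem ι (mem_cent1.2 (show s0 * t0 = t0 * s0 by decide)))
  obtain ⟨b, hb, eb⟩ := H42.conj_mem_of_mem_normalizer hn'
    (mem_map_of_mem ι (mem_cent1.2 (show w0 * t0 = t0 * w0 by decide)))
  have et : ι (a * b * (a * b)) = n * ι t0 * n⁻¹ := by
    rw [show t0 = s0 * w0 * (s0 * w0) by decide]
    simp only [map_mul, ea, eb, conj_mul]
  obtain ⟨h1, h2⟩ | ⟨d, h1, h2⟩ := s4_cases a (mem_cent1.1 ha)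
    (hι (by rw [map_mul, ea, conj_mul, ← map_mul, show s0 * s0 = 1 by decide]; simp)) b
    (mem_cent1.1 hb)
    (hι (by rw [map_mul, eb, conj_mul, ← map_mul, show w0 * w0 = 1 by decide]; simp)) fun c => by
      rw [c, map_one, eq_comm, conj_eq_one_iff, ← map_one ι, hι.eq_iff] at et
      exact absurd et (by decide)
  · refine absurd (hN ▸ mem_norm_V0 ?_ ?_) hn
    · rw [← et, h2]; exact mem_map_of_mem ι (mem_V0.2 (by decide))
    · rw [← ea]; exact mem_map_of_mem ι (mem_V0.2 (Or.inr (Or.inr h1)))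
  have hf : Cf ι (ι d * n) := ⟨hι, fun g => h.mem_of_comm hι le_rfl (range_le_norm ι),
    by rw [← h1, map_mul, map_mul, map_inv, ea]; group,
    by rw [← h2, map_mul, map_mul, map_inv, eb]; group, h.core_eq, fun N hN hle =>
      (h.eq_or hle).resolve_left fun c =>
        V0_ne_bot hι (le_bot_iff.1 (h.core N hN c.le ▸ (map_le_range ι _).trans hle))⟩
  obtain ⟨hs, h16, hD | h3 | ⟨⟨f⟩⟩⟩ := hf.main
  · rcases GW.simple_case hs (fun c => h.ns (Group.isSolvable_of_comm c.is_comm.comm)) hD with ⟨F, _, _, ho, h3, ⟨f⟩⟩ | ⟨⟨f⟩⟩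
    · obtain ⟨Γ, _, _, L, P, tor, τ, m, p, ψ, hp, hq, -, -, -, hG, -⟩ := H22.exists_pg_hom ho h3 f
      have h4 : 8 ∣ τ := by
        rw [hG, mul_assoc, mul_assoc, show 16 = 2 * 2 ^ 3 from rfl] at h16
        exact (Nat.Coprime.pow_left 3 (Nat.coprime_two_left.2 (hp.odd_m.mul
          (hq ▸ ho)))).dvd_of_dvd_mul_right (Nat.dvd_of_mul_dvd_mul_left two_pos h16)
      have h5 := hp.near
      have h6 : Fintype.card F % 16 = 1 ∨ Fintype.card F % 16 = 15 := by omega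
      have h7 := prime_of_s4 ho h6 h3 ((f.mapSubgroup.isCoatom_iff _).2 h.coatom)
        ((card_map_of_injective f.injective).trans hc)
      exact Or.inl ⟨_, h7, h6, psl_zmod h7 rfl f⟩
    · rw [Nat.card_congr f.toEquiv, nat_card_alternatingGroup, Nat.card_fin] at h16
      exact absurd h16 (by decide)
  · exact Or.inr h3
  · refine (no_m11 h.coatom hc (IsPGroup.map (fun x => ⟨1, Subtype.ext ?_⟩) ι) (V0_ne_bot hι)
      (range_le_norm ι) f).elim
    rcases mem_V0.1 x.2 with e | e | e | e <;> rw [coe_pow, e] <;> decide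

end Cfsg.Agent.H43.Wong
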