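/-
Primitive groups with a suborbit of length 3 (Wong), part 3: stabiliser `Sym(4) × 2`.
-/
import Cfsg.Agent.H43.Wong2
import Cfsg.Agent.S0111
import Cfsg.Agent.S2060

set_option autoImplicit false

namespace Cfsg.Agent.H43.Wong

open Subgroup Function Cfsg Cfsg.Agent.H49 Equiv
open scoped MatrixGroups

universe u

/-- `Sym(4) × 2` -/
abbrev H2 := Perm (Fin 4) × Multiplicative (ZMod 2)

def T1 : H2 := (t0, 1)
def S1 : H2 := (s0, 1)
def W1 : H2 := (w0, 1)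
def Z1 : H2 := (1, Multiplicative.ofAdd 1)

/-- normal form in the Sylow 2-subgroup -/
def wd {X : Type*} [Group X] (p q t z : X) (i : Fin 2 × Fin 2 × Fin 2 × Fin 2) : X :=
  p ^ i.1.val * q ^ i.2.1.val * t ^ i.2.2.1.val * z ^ i.2.2.2.val

abbrev wA := wd S1 W1 T1 Z1
abbrev wB := wd W1 S1 T1 (Z1 * T1)

theorem exists_wd : ∀ x : H2, x * T1 = T1 * x → ∃ i, x = wA i := by decide +kernel

set_option synthInstance.maxSize 4000 in
theorem wd_facts : ∀ i, wB i * T1 = T1 * wB i ∧ (wB i).2 = (wA i).2 ∧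
    (S1 * (wA i * W1⁻¹ * (wA i)⁻¹)) ^ 2 ≠ 1 ∧
    (wA i * wA i = 1 → (wB i * (wA i)⁻¹) ^ 2 = 1 →
      wA i = 1 ∨ wA i = T1 ∨ wA i = Z1 ∨ wA i = Z1 * T1) ∧
    (wA i * wA i = 1 ∨ wA i * wA i = T1) ∧
    ((wA i * wB i) ^ 2 = 1 → wA i * wB i = 1 ∨ wA i * wB i = T1) ∧
    ((wA i).2 = 1 → wA i * wB i * T1 ≠ 1 ∧
      (wA i * wA i = 1 → wA i = 1 ∨ ∃ d, d * wA i * d⁻¹ = S1 ∨ d * wA i * d⁻¹ = W1)) := by
  decide +kernel

theorem card_D1 : Nat.card 𝒞[T1] = 2 ^ 4 := by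
  rw [Nat.card_congr (Equiv.subtypeEquivRight (p := (· ∈ 𝒞[T1]))
    (q := fun x => x * T1 = T1 * x) fun x => mem_cent1), Nat.card_eq_fintype_card]
  decide +kernel

theorem Z1_comm : ∀ x : H2, x * Z1 = Z1 * x := by decide +kernel

variable {G : Type u} [Group G] [Finite G]

omit [Finite G] in
theorem map_wd (ι : H2 →* G) (p q t z : H2) (i) :
    ι (wd p q t z i) = wd (ι p) (ι q) (ι t) (ι z) i := by
  simp only [wd, map_mul, map_pow]

omit [Finite G] in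
theorem conj_wd (ι : H2 →* G) (n : G) (p q t z : H2) (i) : n * ι (wd p q t z i) * n⁻¹ =
    wd (n * ι p * n⁻¹) (n * ι q * n⁻¹) (n * ι t * n⁻¹) (n * ι z * n⁻¹) i := by
  simp only [wd, map_mul, map_pow, conj_pow, conj_mul]

structure Cz (ι : H2 →* G) (n : G) : Prop where
  st : St ι.range
  inj : Injective ι
  nn : n * n = 1
  nM : n ∉ ι.range
  ns : n * ι S1 * n⁻¹ = ι W1
  nz : n * ι Z1 * n⁻¹ = ι (Z1 * T1)

omit [Finite G] in
theorem St.cent_z {ι : H2 →* G} (h : St ι.range) (hι : Injective ι) : 𝒞[ι Z1] = ι.range :=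
  h.cent_eq (fun c => absurd (hι (c.trans (map_one ι).symm)) (by decide)) ⟨_, rfl⟩ (by
    rintro _ ⟨x, rfl⟩
    rw [mem_cent1, ← map_mul, ← map_mul, Z1_comm])

namespace Cz

variable {ι : H2 →* G} {n : G} (h : Cz ι n)
include h

omit [Finite G] in
theorem nw : n * ι W1 * n⁻¹ = ι S1 := by
  rw [← h.ns]
  calc _ = n * n * ι S1 * (n * n)⁻¹ := by group
    _ = _ := by rw [h.nn]; group

omit [Finite G] in
theorem nt : n * ι T1 * n⁻¹ = ι T1 := by
  conv_lhs => rw [show T1 = S1 * W1 * (S1 * W1) by decide]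
  conv_rhs => rw [show T1 = W1 * S1 * (W1 * S1) by decide]
  simp only [map_mul, ← conj_mul, h.ns, h.nw]

omit [Finite G] in
theorem conj (i) : n * ι (wA i) * n⁻¹ = ι (wB i) := by
  rw [wA, wB, conj_wd, h.ns, h.nw, h.nt, h.nz, map_wd]

theorem norm : n ∈ 𝒩(𝒞[T1].map ι) := by
  refine H42.mem_normalizer_of_conj_mem ?_
  rintro _ ⟨x, hx, rfl⟩
  obtain ⟨i, rfl⟩ := exists_wd x (mem_cent1.1 hx)
  exact ⟨_, mem_cent1.2 (wd_facts i).1, (h.conj i).symm⟩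

theorem form {g : G} (hg : g ∈ 𝒞[T1].map ι ⊔ zpowers n) :
    ∃ i, g = ι (wA i) ∨ g = ι (wA i) * n := by
  rcases (H42.mem_sup_zpowers h.norm (h.nn ▸ one_mem _)).1 hg with ⟨x, hx, e⟩ | ⟨x, hx, e⟩ <;>
    obtain ⟨i, rfl⟩ := exists_wd x (mem_cent1.1 hx)
  · exact ⟨i, Or.inl e.symm⟩
  · exact ⟨i, Or.inr (mul_inv_eq_iff_eq_mul.1 e.symm)⟩

theorem card : Nat.card (𝒞[T1].map ι ⊔ zpowers n : Subgroup G) = 2 ^ 5 := by
  rw [H42.card_sup_zpowers h.norm (h.nn ▸ one_mem _) fun c => h.nM (map_le_range _ _ c),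
    card_map_of_injective h.inj, card_D1]
  rfl

omit [Finite G] in
theorem le_cent : 𝒞[T1].map ι ⊔ zpowers n ≤ 𝒞[ι T1] := by
  refine sup_le ?_ (zpowers_le.2 (mem_cent1.2 (mul_inv_eq_iff_eq_mul.1 h.nt)))
  rintro _ ⟨x, hx, rfl⟩
  rw [mem_cent1, ← map_mul, ← map_mul, mem_cent1.1 hx]

theorem exists_sylow : ∃ P : Sylow 2 G, (P : Subgroup G) = 𝒞[T1].map ι ⊔ zpowers n := by
  obtain ⟨P, hP⟩ := (IsPGroup.of_card h.card).exists_le_sylow
  refine ⟨P, (hP.eq_or_lt.resolve_right fun hlt => ?_).symm⟩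
  obtain ⟨y, ⟨hy, hyN⟩, hyS⟩ := SetLike.exists_of_lt (H42.lt_inf_normalizer P.isPGroup' hlt)
  have hn : n ∈ 𝒞[T1].map ι ⊔ zpowers n := mem_sup_right (mem_zpowers n)
  have hD : ∀ x, x * T1 = T1 * x → ι x ∈ 𝒞[T1].map ι ⊔ zpowers n := fun x hx =>
    mem_sup_left ⟨x, mem_cent1.2 hx, rfl⟩
  have h1 : ∀ g ∈ (P : Subgroup G), g * ι Z1 * g⁻¹ = ι Z1 → g ∈ 𝒞[T1].map ι ⊔ zpowers n :=
    fun g hg e => by
      have h2 : H42.SylIn 2 (𝒞[T1].map ι) ι.range := ⟨map_le_range _ _,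
        .of_card ((card_map_of_injective h.inj).trans card_D1), by
          have := H42.card_mul_relIndex (map_le_range ι 𝒞[T1])
          rw [card_map_of_injective h.inj, card_D1, ← Nat.card_congr (MonoidHom.ofInjective h.inj).toEquiv,
            Nat.card_prod, Nat.card_perm, Nat.card_fin, Nat.card_eq_fintype_card,
            Fintype.card_multiplicative, ZMod.card, show Nat.factorial 4 = 24 from rfl] at this
          omega⟩
      refine mem_sup_left ((h2.eq_of_le P.isPGroup'.to_inf_left inf_le_right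
        (le_inf (le_sup_left.trans hP) h2.le)).le ⟨hg, ?_⟩)
      rw [← h.st.cent_z h.inj]
      exact mem_cent1.2 (mul_inv_eq_iff_eq_mul.1 e)
  have h2 : ∀ g ∈ 𝒞[T1].map ι ⊔ zpowers n,
      (g * (y * ι Z1 * y⁻¹) * g⁻¹ * (y * ι Z1 * y⁻¹)⁻¹) ^ 2 = 1 := fun g hg => by
    have h3 : ∀ i, ι (wA i) * ι Z1 * (ι (wA i))⁻¹ = ι Z1 := fun i => by
      rw [← map_mul, Z1_comm, map_mul, mul_inv_cancel_right]
    rw [show g * (y * ι Z1 * y⁻¹) * g⁻¹ * (y * ι Z1 * y⁻¹)⁻¹ =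
      y * (y⁻¹ * g * y⁻¹⁻¹ * ι Z1 * (y⁻¹ * g * y⁻¹⁻¹)⁻¹ * (ι Z1)⁻¹) * y⁻¹ by group, conj_pow,
      conj_eq_one_iff]
    obtain ⟨i, e | e⟩ := h.form (H42.conj_mem_of_mem_normalizer (inv_mem hyN) hg) <;> rw [e]
    · rw [h3, mul_inv_cancel, one_pow]
    · rw [show ι (wA i) * n * ι Z1 * (ι (wA i) * n)⁻¹ = ι (wA i) * (n * ι Z1 * n⁻¹) * (ι (wA i))⁻¹
        by group, h.nz, map_mul, ← conj_mul, h3, mul_inv_eq_iff_eq_mul.2
        (mem_cent1.1 (h.le_cent (hD _ (by clear e; revert i; decide +kernel)))), ← map_mul, ← map_inv,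
        ← map_mul, ← map_pow, ← map_one ι]
      congr 1
      decide
  obtain ⟨i, e | e⟩ := h.form (H42.conj_mem_of_mem_normalizer hyN (hD Z1 (by decide)))
  · have h3 := h2 n hn
    rw [e, h.conj, ← map_inv, ← map_mul, ← map_pow, ← map_one ι, h.inj.eq_iff] at h3
    rcases (wd_facts i).2.2.2.1 (h.inj (by
      rw [map_mul, ← e, conj_mul, ← map_mul, show Z1 * Z1 = 1 by decide]; simp)) h3 with
      c | c | c | c <;> rw [c] at e
    · rw [map_one, conj_eq_one_iff, ← map_one ι, h.inj.eq_iff] at e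
      exact absurd e (by decide)
    · have h4 := mem_cent1.1 (h.le_cent (H42.conj_mem_of_mem_normalizer hyN hn))
      rw [← e, conj_mul, conj_mul, mul_left_inj, mul_right_inj, ← mul_inv_eq_iff_eq_mul, h.nz,
        h.inj.eq_iff] at h4
      exact absurd h4 (by decide)
    · exact hyS (h1 y hy e)
    · refine hyS ((mul_mem_cancel_left (inv_mem hn)).1 (h1 _ (mul_mem (inv_mem (hP hn)) hy) ?_))
      calc _ = n⁻¹ * (y * ι Z1 * y⁻¹) * n := by group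
        _ = _ := by rw [e, ← h.nz]; group
  · have h3 := h2 _ (hD S1 (by decide))
    rw [e, show ι S1 * (ι (wA i) * n) * (ι S1)⁻¹ * (ι (wA i) * n)⁻¹ =
      ι S1 * (ι (wA i) * (n * ι S1 * n⁻¹)⁻¹ * (ι (wA i))⁻¹) by group, h.ns, ← map_inv, ← map_inv,
      ← map_mul, ← map_mul, ← map_mul, ← map_pow, ← map_one ι, h.inj.eq_iff] at h3
    exact (wd_facts i).2.2.1 h3

theorem not_conj (g : G) : g * n * g⁻¹ ≠ ι T1 := fun e => by
  obtain ⟨P, hP⟩ := h.exists_sylow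
  have h1 : n * ι (Z1 * S1 * W1) * n⁻¹ = ι (Z1 * S1 * W1) := by
    rw [map_mul, map_mul, ← conj_mul, ← conj_mul, h.nz, h.ns, h.nw, ← map_mul, ← map_mul,
      ← map_mul, ← map_mul]
    congr 1
    decide
  have h2 : orderOf (ι (Z1 * S1 * W1)) = 2 ^ 2 := by
    rw [orderOf_injective ι h.inj]
    exact orderOf_eq_prime_pow (by decide) (by decide)
  obtain ⟨c, hc, hc'⟩ := (H42.sylIn_of_le P (hP ▸ h.le_cent)).exists_conj
    (R := zpowers (g * ι (Z1 * S1 * W1) * g⁻¹)) (.of_card (n := 2) (by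
      rw [Nat.card_zpowers, ← h2]; exact (MulAut.conj g).orderOf_eq _)) (zpowers_le.2 (by
      rw [mem_cent1, ← e, conj_mul, conj_mul, mul_inv_eq_iff_eq_mul.1 h1]))
  have h3 := hc' _ (mem_zpowers _)
  have h4 : c * (g * ι (Z1 * S1 * W1) * g⁻¹) * c⁻¹ * (c * (g * ι (Z1 * S1 * W1) * g⁻¹) * c⁻¹) =
      c * g * ι T1 * (c * g)⁻¹ := by
    rw [conj_mul, conj_mul, ← map_mul, show Z1 * S1 * W1 * (Z1 * S1 * W1) = T1 by decide]
    group
  have h5 : ∀ x, (x ^ 2 = 1 → x = 1 ∨ x = T1) → ι x = c * g * ι T1 * (c * g)⁻¹ → False := by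
    intro x hx e'
    rcases hx (h.inj (by
      rw [map_pow, e', conj_pow, ← map_pow, show T1 ^ 2 = 1 by decide]; simp)) with rfl | rfl
    · rw [map_one, eq_comm, conj_eq_one_iff, ← map_one ι, h.inj.eq_iff] at e'
      exact absurd e' (by decide)
    · refine h.nM ⟨T1, (MulAut.conj (c * g)).injective (e'.symm.trans ?_)⟩
      calc ι T1 = c * ι T1 * c⁻¹ := by rw [mem_cent1.1 hc, mul_inv_cancel_right]
        _ = _ := by rw [← e, MulAut.conj_apply]; group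
  obtain ⟨i, e' | e'⟩ := h.form (hP ▸ h3) <;> rw [e'] at h4
  · exact h5 _ (fun _ => (wd_facts i).2.2.2.2.1) ((map_mul _ _ _).trans h4)
  · refine h5 _ (wd_facts i).2.2.2.2.2.1 (Eq.trans ?_ h4)
    rw [map_mul, ← h.conj, inv_eq_of_mul_eq_one_right h.nn]
    group

theorem exists_Q : ∃ Q : Subgroup G, Nat.card Q = 2 ^ 4 ∧ Q ≤ 𝒞[T1].map ι ⊔ zpowers n ∧
    n * ι Z1 ∈ Q ∧ ι (S1 * W1) ∈ Q ∧ ∀ u ∈ Q, orderOf u = 2 → IsConj u (ι T1) := by
  have hz : ∀ x, ι Z1 * ι x * (ι Z1)⁻¹ = ι x := fun x => by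
    rw [← map_mul, ← Z1_comm, map_mul, mul_inv_cancel_right]
  have h0 : ∀ i, n * ι Z1 * ι (wA i) * (n * ι Z1)⁻¹ = ι (wB i) := fun i => by
    rw [← h.conj]
    calc _ = n * (ι Z1 * ι (wA i) * (ι Z1)⁻¹) * n⁻¹ := by group
      _ = _ := by rw [hz]
  let D := (𝒞[T1] ⊓ (MonoidHom.snd _ _).ker).map ι
  have h1 : n * ι Z1 ∈ 𝒩(D) := by
    refine H42.mem_normalizer_of_conj_mem ?_
    rintro _ ⟨x, hx, rfl⟩
    obtain ⟨i, rfl⟩ := exists_wd x (mem_cent1.1 hx.1)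
    exact ⟨_, ⟨mem_cent1.2 (wd_facts i).1, (wd_facts i).2.1.trans hx.2⟩, (h0 i).symm⟩
  have h2 : n * ι Z1 * (n * ι Z1) = ι T1 := by
    calc _ = n * ι Z1 * n⁻¹ * (n * n) * ι Z1 := by group
      _ = _ := by rw [h.nz, h.nn, mul_one, ← map_mul]; exact congrArg ι (by decide)
  have h3 : n * ι Z1 * (n * ι Z1) ∈ D := ⟨T1, ⟨mem_cent1.2 rfl, rfl⟩, h2.symm⟩
  refine ⟨D ⊔ zpowers (n * ι Z1), ?_, sup_le ((map_mono inf_le_left).trans le_sup_left)
    (zpowers_le.2 (mul_mem (mem_sup_right (mem_zpowers n))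
      (mem_sup_left ⟨Z1, mem_cent1.2 (by decide), rfl⟩))), mem_sup_right (mem_zpowers _),
    mem_sup_left ⟨_, ⟨mem_cent1.2 (by decide), rfl⟩, rfl⟩, fun u hu u2 => ?_⟩
  · rw [H42.card_sup_zpowers h1 h3 fun c => h.nM
      ((mul_mem_cancel_right (ι.mem_range.2 ⟨Z1, rfl⟩)).1 (map_le_range _ _ c)), card_map_of_injective h.inj,
      Nat.card_congr (Equiv.subtypeEquivRight (p := (· ∈ 𝒞[T1] ⊓ (MonoidHom.snd _ _).ker))
        (q := fun x => x * T1 = T1 * x ∧ x.2 = 1) fun x => and_congr mem_cent1 Iff.rfl),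
      Nat.card_eq_fintype_card]
    decide +kernel
  have uu := GW.mul_self_of_inv u2
  rcases (H42.mem_sup_zpowers h1 h3).1 hu with ⟨x, hx, e⟩ | ⟨x, hx, e⟩ <;>
    obtain ⟨i, rfl⟩ := exists_wd x (mem_cent1.1 hx.1)
  · subst e
    have h4 : IsConj (ι S1) (ι T1) := ι.map_isConj (isConj_iff.2 ⟨(swap 1 2, 1), by decide⟩)
    rcases ((wd_facts i).2.2.2.2.2.2 hx.2).2 (h.inj (by rw [map_mul, uu, map_one])) with
      c | ⟨d, c | c⟩
    · exact absurd (by rw [c, map_one]) (GW.ne_one_of_inv u2)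
    · exact (ι.map_isConj (isConj_iff.2 ⟨d, c⟩)).trans h4
    · exact ((ι.map_isConj (isConj_iff.2 ⟨d, c⟩)).trans (isConj_iff.2 ⟨n, h.nw⟩)).trans h4
  · refine absurd (h.inj ?_) ((wd_facts i).2.2.2.2.2.2 hx.2).1
    rw [map_mul, map_mul, ← h0, ← h2, map_one, ← uu, e]
    group

theorem main : ∃ N : Subgroup G, N.Normal ∧ N.index = 2 ∧ 𝒞(N) = ⊥ ∧
    Nonempty (N ≃* PSL(3, ZMod 3)) := by
  obtain ⟨P, hP⟩ := h.exists_sylow
  obtain ⟨Q, hQ, hQS, hnz, hr, hc⟩ := h.exists_Q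
  have n2 : orderOf n = 2 := GW.inv_of_mul_self h.nn fun c => h.nM (c ▸ one_mem _)
  have h1 : ∀ g, g * n * g⁻¹ ∉ Q := fun g c => by
    obtain ⟨a, ha⟩ := isConj_iff.1 (hc _ c (GW.orderOf_conj_inv n2 g))
    exact h.not_conj (a * g) (by rw [← ha]; group)
  obtain ⟨K, hK, hi, hn⟩ | ⟨g, hg⟩ := S0111.result P Q (hP ▸ hQS) (by
    have := H42.card_mul_relIndex hQS
    rw [hQ, h.card] at this
    rw [hP]
    omega) n n2 (hP ▸ mem_sup_right (mem_zpowers n)) (by simpa using h1 1)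
  swap
  · exact absurd hg (h1 g)
  let κ := ι.comp (MonoidHom.inl _ _)
  have hκ : Injective κ := h.inj.comp (Prod.mk_left_injective _)
  have hκK : κ.range ≤ K := range_le (ι := κ) h.ns hK (by
    rw [show t0 = s0 * w0 * (s0 * w0) by decide, map_mul]
    exact mul_self_mem_of_index_two hi _)
  have hι : ∀ x, ι x = κ x.1 ∨ ι x = κ x.1 * ι Z1 := fun x => by
    simp only [κ, MonoidHom.comp_apply, ← map_mul, h.inj.eq_iff]
    revert x
    decide +kernel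
  have hz : ι Z1 ∉ K := fun c => by
    rcases h.st.eq_or (K := K) (by
      rintro _ ⟨x, rfl⟩
      rcases hι x with e | e <;> rw [e]
      exacts [hκK ⟨_, rfl⟩, mul_mem (hκK ⟨_, rfl⟩) c]) with e | e
    · exact V0_ne_bot hκ (le_bot_iff.1 (h.st.core K hK e.le ▸ (map_le_range _ _).trans hκK))
    · exact hn (e ▸ mem_top n)
  have hMK : ∀ g ∈ ι.range, g ∈ K → g ∈ κ.range := by
    rintro _ ⟨x, rfl⟩ hx
    rcases hι x with e | e <;> rw [e] at hx ⊢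
    · exact ⟨_, rfl⟩
    · exact absurd ((mul_mem_cancel_left (hκK ⟨_, rfl⟩)).1 hx) hz
  have hzκ : ∀ x, ι Z1 * κ x * (ι Z1)⁻¹ = κ x := fun x => by
    rw [MonoidHom.comp_apply, ← map_mul, ← Z1_comm, map_mul, mul_inv_cancel_right]
  have hM : ∀ g, g * κ t0 = κ t0 * g → g * κ s0 = κ s0 * g → g ∈ ι.range := fun g =>
    h.st.mem_of_comm hκ (by rintro _ ⟨x, rfl⟩; exact ⟨_, rfl⟩) (by
      rintro _ ⟨x, rfl⟩
      rcases hι x with e | e <;> rw [e]
      · exact range_le_norm κ ⟨_, rfl⟩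
      · refine mul_mem (range_le_norm κ ⟨_, rfl⟩) (mem_norm_V0 ?_ ?_) <;> rw [hzκ] <;>
          exact mem_map_of_mem κ (mem_V0.2 (by decide)))
  have hnK : n * ι Z1 ∈ K := (mul_mem_iff_of_index_two hi).2 (iff_of_false hn hz)
  have hC : 𝒞(K) = ⊥ := h.st.core _ inferInstance fun g hg =>
    hM g (hg _ (hκK ⟨_, rfl⟩)).symm (hg _ (hκK ⟨_, rfl⟩)).symm
  have h2 : ∀ x, n * ι Z1 * κ x * (n * ι Z1)⁻¹ = n * κ x * n⁻¹ := fun x => by
    calc _ = n * (ι Z1 * κ x * (ι Z1)⁻¹) * n⁻¹ := by group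
      _ = _ := by rw [hzκ]
  have hf : Cf (κ.codRestrict K fun x => hκK ⟨x, rfl⟩) ⟨_, hnK⟩ := by
    refine ⟨fun _ _ c => hκ (congrArg Subtype.val c), fun g h3 h4 => ?_,
      Subtype.ext ((h2 _).trans h.ns), Subtype.ext ((h2 _).trans h.nw),
      H8.core_eq_bot_of_normal h.st.core_eq K, fun N hN hle => ?_⟩
    · obtain ⟨x, hx⟩ := hMK g (hM g (congrArg Subtype.val h3) (congrArg Subtype.val h4)) g.2
      exact ⟨x, Subtype.ext hx⟩
    have h3 : κ.range ≤ (N.map K.subtype).normalCore := by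
      have h4 : ∀ g ∈ K, ∀ x, g * κ x * g⁻¹ ∈ N.map K.subtype := fun g hg x =>
        ⟨_, hN.conj_mem _ (hle ⟨x, rfl⟩) ⟨g, hg⟩, rfl⟩
      rintro _ ⟨x, rfl⟩ g
      by_cases hg : g ∈ K
      · exact h4 g hg x
      · convert h4 (g * ι Z1) ((mul_mem_iff_of_index_two hi).2 (iff_of_false hg hz)) x using 1
        calc _ = g * (ι Z1 * κ x * (ι Z1)⁻¹) * g⁻¹ := by rw [hzκ]
          _ = _ := by group
    refine eq_top_iff.2 fun g _ => (mem_map_iff_mem K.subtype_injective).1 ?_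
    have hx : (g : G) ∈ ((ι.range ⊔ (N.map K.subtype).normalCore : Subgroup G) : Set G) :=
      h.st.sup_eq inferInstance (fun c => V0_ne_bot hκ
        (le_bot_iff.1 (c ▸ (map_le_range _ _).trans h3))) ▸ mem_top _
    rw [mul_normal] at hx
    obtain ⟨m, hm, c, hc, e⟩ := hx
    have h5 := normalCore_le _ hc
    replace e : m * c = g := e
    rw [coe_subtype, ← e]
    refine mul_mem (normalCore_le _ (h3 (hMK m hm ?_))) h5
    exact (mul_mem_cancel_right (map_subtype_le N h5)).1 (e ▸ g.2)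
  obtain ⟨-, -, hD | h3 | ⟨⟨f⟩⟩⟩ := hf.main
  · exfalso
    obtain ⟨S, x, y, hd, -, hS⟩ := hD.exists_dih_ge (R := Q.subgroupOf K)
      (IsPGroup.of_card hQ).comap_subtype
    have h3 : ∀ a : K, (a : G) ∈ Q → (a : G) * a = ι T1 → a ∈ zpowers x := fun a ha e => by
      by_contra c
      rw [← coe_mul, hd.out_sq (hS ha) c, coe_one, ← map_one ι, h.inj.eq_iff] at e
      exact absurd e (by decide)
    have h4 : n * ι Z1 * κ (s0 * w0) = κ (s0 * w0) * (n * ι Z1) := congrArg Subtype.val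
      (H42.comm_of_mem_zpowers (h3 ⟨_, hnK⟩ hnz (by
        calc n * ι Z1 * (n * ι Z1) = n * ι Z1 * n⁻¹ * (n * n) * ι Z1 := by group
          _ = _ := by rw [h.nz, h.nn, mul_one, ← map_mul]; exact congrArg ι (by decide)))
        (h3 ⟨_, hκK ⟨s0 * w0, rfl⟩⟩ hr ((map_mul κ _ _).symm.trans (congrArg κ (by decide)))))
    rw [← mul_inv_eq_iff_eq_mul, h2, map_mul, ← conj_mul] at h4
    have h5 : κ w0 * κ s0 = κ s0 * κ w0 := (congrArg₂ _ h.ns.symm h.nw.symm).trans h4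
    rw [← map_mul, ← map_mul, hκ.eq_iff] at h5
    exact absurd h5 (by decide)
  · exact ⟨K, hK, hi, hC, h3⟩
  · obtain ⟨φ, hφ, -, e⟩ := H22.exists_aut_embedding K hC f
    have h3 : Inn Spor.M11 = ⊤ := index_eq_one.1 S2060.result
    exact absurd ((mem_map_iff_mem hφ).1 (e.ge (h3.ge (mem_top _)))) hn

end Cz

set_option synthInstance.maxSize 4000 in
theorem z_cases : ∀ a : H2, a * T1 = T1 * a → a * a = 1 → ∀ b, b * T1 = T1 * b → b * b = 1 →
    a * b * (a * b) ≠ 1 → ∀ c, c * T1 = T1 * c → c * a = a * c → c * b = b * c → c ≠ 1 → c ≠ a * b * (a * b) → c ≠ Z1 →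
      c = Z1 * T1 ∧ a * b * (a * b) = T1 := by
  decide +kernel

theorem a_cases : ∀ a : H2, a * T1 = T1 * a → a * a = 1 → a * S1 = S1 * a ∨
    ∃ d, d * T1 = T1 * d ∧ (d * a * d⁻¹ = W1 ∨ d * a * d⁻¹ = W1 * Z1) := by
  decide +kernel

omit [Finite G] in
theorem St.s4z' {ι : H2 →* G} (h : St ι.range) (hι : Injective ι) {n : G} (hn : n ∉ ι.range)
    (hs : n * ι S1 * n⁻¹ = ι W1) (hz : n * ι Z1 * n⁻¹ = ι (Z1 * T1)) (ht : n * ι T1 * n⁻¹ = ι T1) :
    ∃ n, Cz ι n := by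
  have key : ∀ n, n * ι Z1 * n⁻¹ = ι (Z1 * T1) → n * ι T1 * n⁻¹ = ι T1 →
      ∃ d, d * T1 = T1 * d ∧ ι d = n * n := fun n hz ht => by
    obtain ⟨d, hd⟩ : n * n ∈ ι.range := by
      rw [← h.cent_z hι, mem_cent1, ← mul_inv_eq_iff_eq_mul]
      calc _ = n * (n * ι Z1 * n⁻¹) * n⁻¹ := by group
        _ = _ := by
          rw [hz, map_mul, ← conj_mul, hz, ht, ← map_mul]; congr 1; decide
    refine ⟨d, hι ?_, hd⟩
    rw [map_mul, map_mul, hd, ← mul_inv_eq_iff_eq_mul]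
    calc _ = n * (n * ι T1 * n⁻¹) * n⁻¹ := by group
      _ = _ := by rw [ht, ht]
  have cj : ∀ x y, n * ι x * ι y * (n * ι x)⁻¹ = n * ι (x * y * x⁻¹) * n⁻¹ := fun x y => by
    rw [map_mul, map_mul, map_inv]; group
  obtain ⟨n, hn, hs, hw, hz, ht⟩ : ∃ n ∉ ι.range, n * ι S1 * n⁻¹ = ι W1 ∧ n * ι W1 * n⁻¹ = ι S1 ∧
      n * ι Z1 * n⁻¹ = ι (Z1 * T1) ∧ n * ι T1 * n⁻¹ = ι T1 := by
    obtain ⟨d, hd, e⟩ := key n hz ht
    have h1 : n * ι W1 * n⁻¹ = ι (d * S1 * d⁻¹) := by rw [map_mul, map_mul, map_inv, e, ← hs]; group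
    rcases (by decide +kernel : ∀ d : H2, d * T1 = T1 * d → d * S1 * d⁻¹ = S1 ∨
      d * S1 * d⁻¹ = S1 * T1) d hd with c | c <;> rw [c] at h1
    · exact ⟨n, hn, hs, h1, hz, ht⟩
    · refine ⟨n * ι S1, by rwa [mul_mem_cancel_right (ι.mem_range.2 ⟨_, rfl⟩)], ?_, ?_, ?_, ?_⟩ <;> rw [cj]
      · rwa [mul_inv_cancel_right]
      · rw [show S1 * W1 * S1⁻¹ = W1 * T1 by decide, map_mul, ← conj_mul, h1, ht, ← map_mul]
        congr 1
        decide
      · rwa [Z1_comm, mul_inv_cancel_right]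
      · rwa [show S1 * T1 * S1⁻¹ = T1 by decide]
  obtain ⟨d, -, e⟩ := key n hz ht
  have h1 : ∀ x y, n * ι x * n⁻¹ = ι y → n * ι y * n⁻¹ = ι x → d * x = x * d := fun x y h1 h2 => by
    refine hι ?_
    rw [map_mul, map_mul, e, ← mul_inv_eq_iff_eq_mul]
    calc _ = n * (n * ι x * n⁻¹) * n⁻¹ := by group
      _ = _ := by rw [h1, h2]
  have h2 : n * ι d * n⁻¹ = ι d := by rw [e]; group
  rcases (by decide +kernel : ∀ d : H2, d * S1 = S1 * d → d * W1 = W1 * d →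
    d = 1 ∨ d = T1 ∨ d = Z1 ∨ d = Z1 * T1) d (h1 _ _ hs hw) (h1 _ _ hw hs) with rfl | rfl | rfl | rfl
  · exact ⟨n, h, hι, e.symm.trans (map_one ι), hn, hs, hz⟩
  · have cj : ∀ y, n * ι Z1 * ι y * (n * ι Z1)⁻¹ = n * ι y * n⁻¹ := fun y => by
      calc _ = n * ι (Z1 * y) * (n * ι Z1)⁻¹ := by rw [map_mul, mul_assoc n]
        _ = _ := by rw [← Z1_comm, map_mul]; group
    refine ⟨n * ι Z1, h, hι, ?_, by rwa [mul_mem_cancel_right (ι.mem_range.2 ⟨_, rfl⟩)], (cj _).trans hs,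
      (cj _).trans hz⟩
    calc _ = n * ι Z1 * n⁻¹ * (n * n) * ι Z1 := by group
      _ = _ := by rw [hz, ← e, ← map_mul, ← map_mul, ← map_one ι]; congr 1; decide
  · exact absurd (hι (hz.symm.trans h2)) (by decide)
  · rw [map_mul, ← conj_mul, hz, ht, ← map_mul, ← map_mul] at h2
    exact absurd (hι h2) (by decide)

/-- the automorphism of `Sym(4) × 2` twisting by the sign -/
def tw : H2 →* H2 :=
  MonoidHom.mk' (fun x => if Perm.sign x.1 = 1 then x else x * Z1) (by decide +kernel)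

theorem tw_tw : ∀ x, tw (tw x) = x := by decide +kernel

theorem St.s4z {M : Subgroup G} (h : St M) (e : M ≃* H2) : ∃ N : Subgroup G, N.Normal ∧
    N.index = 2 ∧ 𝒞(N) = ⊥ ∧ Nonempty (N ≃* PSL(3, ZMod 3)) := by
  obtain ⟨ι, hι, rfl⟩ := exists_iota e
  obtain ⟨n, hn, hn'⟩ := h.exists_norm (map_le_range ι 𝒞[T1])
    ((card_map_of_injective hι).trans card_D1) (by
      rw [Nat.card_congr e.toEquiv, Nat.card_prod, Nat.card_perm, Nat.card_fin,
        Nat.card_eq_fintype_card, Fintype.card_multiplicative, ZMod.card]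
      rfl)
  have ex : ∀ x, x * T1 = T1 * x → ∃ a, a * T1 = T1 * a ∧ ι a = n * ι x * n⁻¹ := fun x hx => by
    obtain ⟨a, ha, ea⟩ := H42.conj_mem_of_mem_normalizer hn' (mem_map_of_mem ι (mem_cent1.2 hx))
    exact ⟨a, mem_cent1.1 ha, ea⟩
  obtain ⟨a, ha, ea⟩ := ex S1 (by decide)
  obtain ⟨b, hb, eb⟩ := ex W1 (by decide)
  obtain ⟨c, hc, ec⟩ := ex Z1 (by decide)
  have et : ι (a * b * (a * b)) = n * ι T1 * n⁻¹ := by
    rw [show T1 = S1 * W1 * (S1 * W1) by decide]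
    simp only [map_mul, ea, eb, conj_mul]
  have inj : ∀ {x y x' y'}, ι x = n * ι x' * n⁻¹ → ι y = n * ι y' * n⁻¹ → x' ≠ y' → x ≠ y :=
    fun e1 e2 c c' => c (hι ((MulAut.conj n).injective (e1.symm.trans (c' ▸ e2))))
  have one : ι 1 = n * ι 1 * n⁻¹ := by simp
  have com : ∀ {x x'}, ι x = n * ι x' * n⁻¹ → c * x = x * c := fun e1 => hι (by
    rw [map_mul, map_mul, e1, ec, conj_mul, conj_mul, ← map_mul, ← map_mul, Z1_comm])
  have sq : ∀ {x x'}, ι x = n * ι x' * n⁻¹ → x' * x' = 1 → x * x = 1 := fun e1 e2 =>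
    hι (by rw [map_mul, e1, conj_mul, ← map_mul, e2, ← one])
  obtain ⟨rfl, h1⟩ := z_cases a ha (sq ea (by decide)) b hb (sq eb (by decide))
    (inj et one (by decide)) c hc (com ea) (com eb)
    (inj ec one (by decide)) (inj ec et (by decide)) fun c => hn (by
      rw [← h.cent_z hι, mem_cent1, ← mul_inv_eq_iff_eq_mul, ← ec, c])
  rw [h1] at et
  obtain h2 | ⟨d, hd, h2⟩ := a_cases a ha (sq ea (by decide))
  · refine absurd ?_ hn
    have h3 : ∀ x : H2, x ∈ 𝒞[T1] ⊓ 𝒞[S1] ↔ x * T1 = T1 * x ∧ x * S1 = S1 * x :=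
      fun x => and_congr mem_cent1 mem_cent1
    rw [← h.norm_eq (X := (𝒞[T1] ⊓ 𝒞[S1]).map ι) (fun c => hι.ne (show T1 ≠ 1 by decide)
      ((mem_bot.1 (c ▸ mem_map_of_mem ι ((h3 _).2 (by decide)))).trans (map_one ι).symm))
      (map_le_range _ _) (by
        rintro _ ⟨x, rfl⟩
        refine H42.mem_normalizer_of_conj_mem ?_
        rintro _ ⟨y, hy, rfl⟩
        rw [← map_inv, ← map_mul, ← map_mul]
        refine mem_map_of_mem ι ((h3 _).2 ?_)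
        replace hy := (h3 _).1 hy
        revert y x
        decide +kernel)]
    refine H42.mem_normalizer_of_conj_mem ?_
    rintro _ ⟨y, hy, rfl⟩
    obtain ⟨i, rfl⟩ := (by decide +kernel : ∀ y : H2, y * T1 = T1 * y ∧ y * S1 = S1 * y →
      ∃ i, y = wd S1 1 T1 Z1 i) y ((h3 _).1 hy)
    rw [conj_wd, ← ea, ← one, ← et, ← ec]
    refine mul_mem (mul_mem (mul_mem (pow_mem ?_ _) (pow_mem ?_ _)) (pow_mem ?_ _)) (pow_mem ?_ _) <;>
      refine mem_map_of_mem ι ((h3 _).2 ?_)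
    exacts [⟨ha, h2⟩, by decide, by decide, by decide]
  have cj : ∀ {x y}, ι x = n * ι y * n⁻¹ → ι d * n * ι y * (ι d * n)⁻¹ = ι (d * x * d⁻¹) :=
    fun e => by rw [map_mul, map_mul, map_inv, e]; group
  have h3 := cj ea
  have h4 := cj ec
  have h5 := cj et
  rw [← mul_assoc, Z1_comm, mul_assoc Z1, hd, ← mul_assoc, mul_inv_cancel_right] at h4
  rw [hd, mul_inv_cancel_right] at h5
  have h6 : ι d * n ∉ ι.range := by rwa [mul_mem_cancel_left (ι.mem_range.2 ⟨_, rfl⟩)]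
  rcases h2 with h2 | h2 <;> rw [h2] at h3
  · exact (h.s4z' hι h6 h3 h4 h5).elim fun _ c => c.main
  · have h7 : (ι.comp tw).range = ι.range := by
      rw [MonoidHom.range_comp, MonoidHom.range_eq_top.2 fun x => ⟨_, tw_tw x⟩,
        ← MonoidHom.range_eq_map]
    exact ((h7 ▸ h : St (ι.comp tw).range).s4z' (hι.comp (LeftInverse.injective tw_tw)) (h7 ▸ h6)
      h3 h4 h5).elim fun _ c => c.main

end Cfsg.Agent.H43.Wong
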